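import Mathlib

/-!
The facts on `S₃ × S₆` used to exclude centralizers `2^(1+8).(S₃ × A₆)` and relatives.
-/

set_option autoImplicit false

namespace CfsgLib.Small9

open Subgroup Equiv

section abstract
variable {H : Type*} [Group H]

/-- the four-group `⟨c, c'⟩` and an element `y` of order 3 permuting its involutions -/
structure Half (A A1 : Subgroup H) (c c' c'' y : H) : Prop where
  mem : c' ∈ A
  ymem : y ∈ A
  sq : c' * c' = 1
  comm : c * c' = c' * c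
  y1 : y * c * y⁻¹ = c'
  y2 : y * c' * y⁻¹ = c * c'
  yeq : y = c'' * (y * c'' * y⁻¹)
  y3 : y * y * y = 1
  odd : ∃ y0, ∀ x ∈ A1, x ∉ A → x * c = c * x → x * c' = c' * x → x = y0 ∨
    ∃ h ∈ A, h * x = x * h ∧ ∃ e, (e = c ∨ e = c' ∨ e = c * c') ∧ (e * (h * e * h⁻¹)) ^ 2 ≠ 1

/-- an involution `c` of `A₆` with the two four-groups containing it -/
structure Flag (A A1 : Subgroup H) (c c' c'' y' y'' g : H) : Prop where
  mem : c ∈ A
  sq : c * c = 1
  ne : c ≠ 1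
  h1 : Half A A1 c c' c'' y'
  h2 : Half A A1 c c'' c' y''
  five : (y' * y'') ^ 5 = 1
  five' : y' * y'' ≠ 1
  gmem : g ∈ A
  g5 : (c * (g * c * g⁻¹)) ^ 5 = 1
  g5' : c * (g * c * g⁻¹) ≠ 1
  root : c' * c'' * (c' * c'') = c
  cent : ∀ h ∈ A, h * c = c * h → h = 1 ∨ h = c ∨ h = c' ∨ h = c * c' ∨ h = c'' ∨ h = c * c'' ∨
    h = c' * c'' ∨ h = c'' * c'
  oddc : ∀ h ∈ A1, h * h = 1 → h * c = c * h → h * c' = c' * h ∨ h * c'' = c'' * h

theorem Flag.symm {A A1 : Subgroup H} {c c' c'' y' y'' g : H} (h : Flag A A1 c c' c'' y' y'' g) :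
    Flag A A1 c c'' c' y'' y' g where
  mem := h.mem
  sq := h.sq
  ne := h.ne
  h1 := h.h2
  h2 := h.h1
  five := by
    rw [show y'' * y' = y'' * (y' * y'') * y''⁻¹ by group, conj_pow, h.five]; simp
  five' := fun e => h.five' (mul_eq_one_comm.1 e)
  gmem := h.gmem
  g5 := h.g5
  g5' := h.g5'
  root := by
    have e : c'' * c' = (c' * c'')⁻¹ := by
      rw [mul_inv_rev, inv_eq_of_mul_eq_one_right h.h1.sq, inv_eq_of_mul_eq_one_right h.h2.sq]
    rw [e, ← mul_inv_rev, h.root, inv_eq_of_mul_eq_one_right h.sq]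
  cent := fun x hx e => by have := h.cent x hx e; tauto
  oddc := fun x hx e e' => (h.oddc x hx e e').symm

theorem Half.map {H' : Type*} [Group H'] {A A1 : Subgroup H} {c c' c'' y : H}
    (h : Half A A1 c c' c'' y) (φ : H →* H') (hφ : Function.Injective φ) :
    Half (A.map φ) (A1.map φ) (φ c) (φ c') (φ c'') (φ y) where
  mem := mem_map_of_mem φ h.mem
  ymem := mem_map_of_mem φ h.ymem
  sq := by rw [← map_mul, h.sq, map_one]
  comm := by rw [← map_mul, h.comm, map_mul]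
  y1 := by rw [← map_inv, ← map_mul, ← map_mul, h.y1]
  y2 := by rw [← map_inv, ← map_mul, ← map_mul, h.y2, map_mul]
  yeq := by rw [← map_inv, ← map_mul, ← map_mul, ← map_mul, ← h.yeq]
  y3 := by rw [← map_mul, ← map_mul, h.y3, map_one]
  odd := by
    obtain ⟨y0, h0⟩ := h.odd
    refine ⟨φ y0, ?_⟩
    rintro _ ⟨x, hx, rfl⟩ h1 h2 h3
    rw [← map_mul, ← map_mul, hφ.eq_iff] at h2 h3
    rcases h0 x hx (fun e => h1 (mem_map_of_mem φ e)) h2 h3 with e | ⟨k, hk, e, a, ha, hb⟩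
    · exact Or.inl (by rw [e])
    · refine Or.inr ⟨φ k, mem_map_of_mem φ hk, by rw [← map_mul, e, map_mul], φ a, ?_, ?_⟩
      · rcases ha with rfl | rfl | rfl <;> simp
      · rwa [← map_inv, ← map_mul, ← map_mul, ← map_mul, ← map_pow, Ne, map_eq_one_iff φ hφ]

theorem Flag.map {H' : Type*} [Group H'] {A A1 : Subgroup H} {c c' c'' y' y'' g : H}
    (h : Flag A A1 c c' c'' y' y'' g) (φ : H →* H') (hφ : Function.Injective φ) :
    Flag (A.map φ) (A1.map φ) (φ c) (φ c') (φ c'') (φ y') (φ y'') (φ g) where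
  mem := mem_map_of_mem φ h.mem
  sq := by rw [← map_mul, h.sq, map_one]
  ne := by rw [Ne, map_eq_one_iff φ hφ]; exact h.ne
  h1 := h.h1.map φ hφ
  h2 := h.h2.map φ hφ
  five := by rw [← map_mul, ← map_pow, h.five, map_one]
  five' := by rw [← map_mul, Ne, map_eq_one_iff φ hφ]; exact h.five'
  gmem := mem_map_of_mem φ h.gmem
  g5 := by rw [← map_inv, ← map_mul, ← map_mul, ← map_mul, ← map_pow, h.g5, map_one]
  g5' := by
    rw [← map_inv, ← map_mul, ← map_mul, ← map_mul, Ne, map_eq_one_iff φ hφ]; exact h.g5'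
  root := by rw [← map_mul, ← map_mul, h.root]
  cent := by
    rintro _ ⟨x, hx, rfl⟩ e
    rw [← map_mul, ← map_mul, hφ.eq_iff] at e
    simpa only [← map_mul, hφ.eq_iff, map_eq_one_iff φ hφ] using h.cent x hx e
  oddc := by
    rintro _ ⟨x, hx, rfl⟩ e e'
    rw [← map_mul, ← map_mul, hφ.eq_iff] at e'
    rw [← map_mul, map_eq_one_iff φ hφ] at e
    simpa only [← map_mul, hφ.eq_iff] using h.oddc x hx e e'

/-- the properties of `S₃ × S₆ ≥ A1 = S₆ ≥ A = A₆` -/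
structure Grp (A A1 : Subgroup H) (ρ : H) : Prop where
  ρ3 : ρ * ρ * ρ = 1
  ρne : ρ ≠ 1
  le : A ≤ A1
  norm : ∀ h, ∀ x ∈ A, h * x * h⁻¹ ∈ A
  comm : ∀ h ∈ A1, h * ρ = ρ * h
  dich : ∀ (h : H) (k : ℕ), h ^ 2 ^ k = 1 → h ∈ A1 ∨ h * ρ = ρ * ρ * h
  idx1 : ∀ Y : Subgroup H, IsPGroup 2 Y → Nat.card Y ≤ 2 * Nat.card (Y ⊓ A1 : Subgroup H)
  idx2 : ∀ Y : Subgroup H, Nat.card (Y ⊓ A1 : Subgroup H) ≤ 2 * Nat.card (Y ⊓ A : Subgroup H)
  mul : ∀ x ∈ A1, ∀ y ∈ A1, x ∉ A → y ∉ A → x * y ∈ A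
  sq : ∀ h, h ^ 4 = 1 → h * h ∈ A
  flag : ∀ c ∈ A, c * c = 1 → c ≠ 1 → ∃ c' c'' y' y'' g, Flag A A1 c c' c'' y' y'' g
  simple : ∀ K : Subgroup H, K ≤ A → (∀ a ∈ A, ∀ k ∈ K, a * k * a⁻¹ ∈ K) → K = ⊥ ∨ K = A
  inv : ∃ c ∈ A, c * c = 1 ∧ c ≠ 1

theorem Half.comap {H' : Type*} [Group H'] {A A1 : Subgroup H} {φ : H' →* H}
    (hφ : Function.Injective φ) (hA : A ≤ φ.range) {c c' c'' y : H'}
    (h : Half A A1 (φ c) (φ c') (φ c'') (φ y)) : Half (A.comap φ) (A1.comap φ) c c' c'' y where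
  mem := h.mem
  ymem := h.ymem
  sq := hφ (by simpa using h.sq)
  comm := hφ (by simpa using h.comm)
  y1 := hφ (by simpa using h.y1)
  y2 := hφ (by simpa using h.y2)
  yeq := hφ (by simpa using h.yeq)
  y3 := hφ (by simpa using h.y3)
  odd := by
    obtain ⟨y0, h0⟩ := h.odd
    refine ⟨Function.invFun φ y0, fun x hx h1 h2 h3 => ?_⟩
    rcases h0 (φ x) hx h1 (by rw [← map_mul, h2, map_mul]) (by rw [← map_mul, h3, map_mul]) with
      e | ⟨k, hk, e, a, ha, hb⟩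
    · exact Or.inl (by rw [← e, Function.leftInverse_invFun hφ])
    · obtain ⟨k, rfl⟩ := hA hk
      obtain ⟨a, rfl, ha'⟩ : ∃ a', φ a' = a ∧ (a' = c ∨ a' = c' ∨ a' = c * c') := by
        rcases ha with rfl | rfl | rfl
        exacts [⟨c, rfl, by simp⟩, ⟨c', rfl, by simp⟩, ⟨c * c', by simp, by simp⟩]
      exact Or.inr ⟨k, hk, hφ (by simpa using e), a, ha', fun e => hb (by
        simpa using congrArg φ e)⟩

theorem map_inf_comap' {H' : Type*} [Group H'] (φ : H' →* H) (Y : Subgroup H') (B : Subgroup H) :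
    (Y ⊓ B.comap φ).map φ = Y.map φ ⊓ B := by
  ext x
  exact ⟨by rintro ⟨y, ⟨a, b⟩, rfl⟩; exact ⟨⟨y, a, rfl⟩, b⟩,
    by rintro ⟨⟨y, a, rfl⟩, b⟩; exact ⟨y, ⟨a, b⟩, rfl⟩⟩

theorem Grp.comap {H' : Type*} [Group H'] {A A1 : Subgroup H} {φ : H' →* H}
    (hφ : Function.Injective φ) (hA : A ≤ φ.range) {ρ : H'} (h : Grp A A1 (φ ρ)) :
    Grp (A.comap φ) (A1.comap φ) ρ where
  ρ3 := hφ (by simpa using h.ρ3)
  ρne := fun e => h.ρne (by rw [e, map_one])
  le := comap_mono h.le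
  norm := fun x y hy => by simpa using h.norm (φ x) _ hy
  comm := fun x hx => hφ (by simpa using h.comm _ hx)
  dich := fun x k e => (h.dich (φ x) k (by rw [← map_pow, e, map_one])).imp id
    fun e => hφ (by simpa using e)
  idx1 := fun Y hY => by
    have := h.idx1 (Y.map φ) (hY.map φ)
    rwa [← map_inf_comap', card_map_of_injective hφ, card_map_of_injective hφ] at this
  idx2 := fun Y => by
    have := h.idx2 (Y.map φ)
    rwa [← map_inf_comap', ← map_inf_comap', card_map_of_injective hφ,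
      card_map_of_injective hφ] at this
  mul := fun x hx y hy h1 h2 => by
    rw [mem_comap, map_mul]; exact h.mul _ hx _ hy h1 h2
  sq := fun x e => by
    rw [mem_comap, map_mul]; exact h.sq _ (by rw [← map_pow, e, map_one])
  flag := fun c hc h1 h2 => by
    obtain ⟨c', c'', y', y'', g, F⟩ := h.flag (φ c) hc (by rw [← map_mul, h1, map_one])
      fun e => h2 (hφ (by rw [e, map_one]))
    obtain ⟨c', rfl⟩ := hA F.h1.mem
    obtain ⟨c'', rfl⟩ := hA F.h2.mem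
    obtain ⟨y', rfl⟩ := hA F.h1.ymem
    obtain ⟨y'', rfl⟩ := hA F.h2.ymem
    obtain ⟨g, rfl⟩ := hA F.gmem
    refine ⟨c', c'', y', y'', g, hc, h1, h2, F.h1.comap hφ hA, F.h2.comap hφ hA,
      hφ (by simpa using F.five), fun e => F.five' (by rw [← map_mul, e, map_one]), F.gmem,
      hφ (by simpa using F.g5), fun e => F.g5' (by simpa using congrArg φ e),
      hφ (by simpa using F.root), fun x hx e => ?_,
      fun x hx e e' => by
        simpa only [← map_mul, hφ.eq_iff] using (F.oddc (φ x) hx (by rw [← map_mul, e, map_one])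
          (by rw [← map_mul, e', map_mul]))⟩
    simpa only [← map_mul, hφ.eq_iff, map_eq_one_iff φ hφ] using
      F.cent (φ x) hx (by rw [← map_mul, e, map_mul])
  simple := fun K hK hn => by
    rcases h.simple (K.map φ) (map_le_iff_le_comap.2 hK) (by
      rintro a ha _ ⟨k, hk, rfl⟩
      obtain ⟨a, rfl⟩ := hA ha
      exact ⟨_, hn a ha k hk, by simp⟩) with e | e
    · exact Or.inl ((map_eq_bot_iff_of_injective _ hφ).1 e)
    · exact Or.inr (by rw [← e, comap_map_eq_self_of_injective hφ])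
  inv := by
    obtain ⟨c, hc, h1, h2⟩ := h.inv
    obtain ⟨c, rfl⟩ := hA hc
    exact ⟨c, hc, hφ (by simpa using h1), fun e => h2 (by rw [e, map_one])⟩

theorem card_le_two_mul [Finite H] (σ : H →* ℤˣ) (Y : Subgroup H) :
    Nat.card Y ≤ 2 * Nat.card (Y ⊓ σ.ker : Subgroup H) := by
  have h1 := (σ.ker.subgroupOf Y).card_mul_index
  have h2 : (σ.ker.subgroupOf Y).index ≤ 2 := by
    rw [show σ.ker.subgroupOf Y = (σ.comp Y.subtype).ker from rfl, index_ker]
    exact (Nat.card_le_card_of_injective _ Subtype.val_injective).trans (by simp)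
  rw [← h1, inf_comm, ← subgroupOf_map_subtype, card_map_of_injective Y.subtype_injective, mul_comm]
  exact Nat.mul_le_mul_right _ h2

theorem card_le_length {P : Subgroup H} (l : List H) (h : ∀ x ∈ P, x ∈ l) :
    Nat.card P ≤ l.length := by
  classical
  calc Nat.card P ≤ Nat.card l.toFinset := Nat.card_le_card_of_injective
        (fun x => ⟨x, List.mem_toFinset.2 (h x x.2)⟩) fun a b e => Subtype.ext (by simpa using e)
    _ ≤ _ := by rw [Nat.card_eq_fintype_card, Fintype.card_coe]; exact l.toFinset_card_le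

theorem mem_of_length_le {P : Subgroup H} (l : List H) (h : ∀ x ∈ P, x ∈ l)
    (h' : l.length ≤ Nat.card P) {x : H} (hx : x ∈ l) : x ∈ P := by
  classical
  by_contra hP
  have := card_le_length (l.erase x) fun y hy =>
    (List.mem_erase_of_ne (by rintro rfl; exact hP hy)).2 (h y hy)
  rw [List.length_erase_of_mem hx] at this
  have := List.length_pos_of_mem hx
  omega

theorem exists_central_inv [Finite H] {Y : Subgroup H} (hY : IsPGroup 2 Y) (h : 2 ≤ Nat.card Y) :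
    ∃ c ∈ Y, c * c = 1 ∧ c ≠ 1 ∧ ∀ y ∈ Y, y * c = c * y := by
  haveI : Nontrivial Y := Finite.one_lt_card_iff_nontrivial.1 h
  haveI := hY.center_nontrivial
  obtain ⟨n, hn, e⟩ := (hY.to_subgroup (center Y)).nontrivial_iff_card.1 inferInstance
  obtain ⟨c, hc⟩ := exists_prime_orderOf_dvd_card' (G := center Y) 2 (e ▸ dvd_pow_self 2 hn.ne')
  refine ⟨c, c.1.2, ?_, fun e => ?_, fun y hy => congrArg Subtype.val (mem_center_iff.1 c.2 ⟨y, hy⟩)⟩
  · rw [← sq, ← hc]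
    exact congrArg (fun x : center Y => ((x : Y) : H)) (pow_orderOf_eq_one c)
  · rw [show c = 1 from Subtype.ext (Subtype.ext e)] at hc
    simp at hc

theorem isPGroup_of_sq {Y : Subgroup H} (h : ∀ y ∈ Y, y * y = 1) : IsPGroup 2 Y :=
  fun y => ⟨1, Subtype.ext (by simpa [sq] using h y y.2)⟩

theorem comm_of_sq {Y : Subgroup H} (h : ∀ y ∈ Y, y * y = 1) {x y : H} (hx : x ∈ Y) (hy : y ∈ Y) :
    x * y = y * x := by
  rw [← inv_eq_of_mul_eq_one_right (h _ (mul_mem hx hy)), mul_inv_rev,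
    inv_eq_of_mul_eq_one_right (h x hx), inv_eq_of_mul_eq_one_right (h y hy)]

namespace Grp
variable [Finite H] {A A1 : Subgroup H} {ρ : H} (m : Grp A A1 ρ)
include m

theorem card_inf_le {Y : Subgroup H} (hY : IsPGroup 2 Y) :
    Nat.card (Y ⊓ A : Subgroup H) ≤ 8 := by
  by_contra! h
  obtain ⟨c, hc, h1, h2, h3⟩ := exists_central_inv (hY.to_inf_left (K := A)) (by omega)
  obtain ⟨c', c'', y', y'', g, F⟩ := m.flag c hc.2 h1 h2
  have := card_le_length (P := Y ⊓ A) [1, c, c', c * c', c'', c * c'', c' * c'', c'' * c']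
    fun x hx => by simpa using F.cent x hx.2 (h3 x hx)
  simp only [List.length_cons, List.length_nil] at this; omega

theorem card_le {Y : Subgroup H} (hY : IsPGroup 2 Y) : Nat.card Y ≤ 32 := by
  have := m.card_inf_le hY
  have := m.idx1 Y hY
  have := m.idx2 Y
  omega

theorem card_elem {Y : Subgroup H} (hY : ∀ y ∈ Y, y * y = 1) :
    Nat.card (Y ⊓ A : Subgroup H) ≤ 4 := by
  by_contra! h
  obtain ⟨c, hc, h1, h2, h3⟩ := exists_central_inv ((isPGroup_of_sq hY).to_inf_left (K := A))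
    (by omega)
  obtain ⟨c', c'', y', y'', g, F⟩ := m.flag c hc.2 h1 h2
  have k : ∀ {c' c'' y' y'' : H}, Flag A A1 c c' c'' y' y'' g → c'' ∉ Y → False := by
    intro c' c'' y' y'' F hn
    have := card_le_length (P := Y ⊓ A) [1, c, c', c * c'] fun x hx => by
      rcases F.cent x hx.2 (h3 x hx) with e | e | e | e | e | e | e | e
      iterate 4 simp [e]
      · exact absurd (e ▸ hx.1) hn
      · exact absurd ((Y.mul_mem_cancel_left hc.1).1 (e ▸ hx.1)) hn
      · exact absurd (F.root.symm.trans (e ▸ hY x hx.1)) h2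
      · exact absurd (F.symm.root.symm.trans (e ▸ hY x hx.1)) h2
    simp only [List.length_cons, List.length_nil] at this; omega
  by_cases e : c'' ∈ Y
  · exact k F.symm fun e' => h2 (F.root.symm.trans (hY _ (mul_mem e' e)))
  · exact k F e

theorem inv_of_not_mem {Y : Subgroup H} (hY : IsPGroup 2 Y) {x : H} (hx : x ∈ Y) (h : x ∉ A1) :
    x * ρ = ρ * ρ * x := by
  obtain ⟨k, hk⟩ := hY ⟨x, hx⟩
  exact (m.dich x k (congrArg Subtype.val hk)).resolve_left h

omit [Finite H] in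
theorem mul_mem_A1 {x y : H} (hx : x * ρ = ρ * ρ * x) (hy : y * ρ = ρ * ρ * y) {k : ℕ}
    (h : (x * y) ^ 2 ^ k = 1) : x * y ∈ A1 := by
  refine (m.dich _ k h).resolve_right fun e => m.ρne ?_
  have : x * y * ρ = ρ * (x * y) := by
    rw [mul_assoc, hy, ← mul_assoc, ← mul_assoc, hx, mul_assoc _ x ρ, hx,
      show ρ * ρ * (ρ * ρ * x) * y = ρ * ρ * ρ * ρ * (x * y) by group, m.ρ3, one_mul]
  rw [this, mul_left_inj, left_eq_mul] at e
  exact e

omit [Finite H] in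
theorem not_mem_A1 {x : H} (hx : x * ρ = ρ * ρ * x) : x ∉ A1 := fun h => m.ρne (by
  rwa [m.comm x h, mul_left_inj, left_eq_mul] at hx)

theorem exists_not_mem {Y B : Subgroup H} (h : Nat.card (Y ⊓ B : Subgroup H) < Nat.card Y) :
    ∃ x ∈ Y, x ∉ B := by
  by_contra! e
  rw [inf_eq_left.2 e] at h
  omega

end Grp

end abstract

/-- `S₆` -/
abbrev S6 : Type := Perm (Fin 6)

/-- `S₃ × S₆` -/
abbrev HH : Type := Perm (Fin 3) × Perm (Fin 6)

/-- the element `(0 1)(2 3)` -/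
def c0 : S6 := swap 0 1 * swap 2 3
/-- the element `(0 2)(1 3)` -/
def c1 : S6 := swap 0 2 * swap 1 3
/-- the element `(0 1)(4 5)` -/
def c2 : S6 := swap 0 1 * swap 4 5
/-- the element `(0 2 1)` -/
def ya : S6 := swap 0 1 * swap 0 2
/-- the element `(0 4 2)(1 5 3)` -/
def yb : S6 := swap 0 2 * swap 0 4 * (swap 1 3 * swap 1 5)
/-- the element `(1 2)(3 4)` -/
def gg : S6 := swap 1 2 * swap 3 4

theorem odd1 : ∀ x : S6, Perm.sign x ≠ 1 → x * c0 = c0 * x → x * c1 = c1 * x → x = swap 4 5 ∨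
    ∃ h : S6, Perm.sign h = 1 ∧ h * x = x * h ∧ ((c0 * (h * c0 * h⁻¹)) ^ 2 ≠ 1 ∨
      (c1 * (h * c1 * h⁻¹)) ^ 2 ≠ 1) := by decide +kernel

theorem odd2 : ∀ x : S6, Perm.sign x ≠ 1 → x * c0 = c0 * x → x * c2 = c2 * x →
    x = swap 0 1 * swap 2 3 * swap 4 5 ∨
    ∃ h : S6, Perm.sign h = 1 ∧ h * x = x * h ∧ ((c0 * (h * c0 * h⁻¹)) ^ 2 ≠ 1 ∨
      (c2 * (h * c2 * h⁻¹)) ^ 2 ≠ 1) := by decide +kernel

theorem cent0 : ∀ h : S6, h * c0 = c0 * h → (h * h = 1 → h * c1 = c1 * h ∨ h * c2 = c2 * h) ∧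
    (Perm.sign h = 1 → h = 1 ∨ h = c0 ∨ h = c1 ∨
    h = c0 * c1 ∨ h = c2 ∨ h = c0 * c2 ∨ h = c1 * c2 ∨ h = c2 * c1) := by decide +kernel

theorem flag0 : Flag (alternatingGroup (Fin 6)) ⊤ c0 c1 c2 ya yb gg := by
  refine ⟨?_, ?_, ?_, ⟨?_, ?_, ?_, ?_, ?_, ?_, ?_, ?_, swap 4 5, fun x _ h1 h2 h3 => ?_⟩,
    ⟨?_, ?_, ?_, ?_, ?_, ?_, ?_, ?_, swap 0 1 * swap 2 3 * swap 4 5, fun x _ h1 h2 h3 => ?_⟩, ?_, ?_, ?_, ?_,
    ?_, ?_, fun h hh e => (cent0 h e).2 hh, fun h _ e e' => (cent0 h e').1 e⟩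
  any_goals (first | rw [Perm.mem_alternatingGroup]; decide +kernel | decide +kernel)
  · refine (odd1 x h1 h2 h3).imp id ?_
    rintro ⟨h, a, b, c | c⟩
    · exact ⟨h, a, b, c0, Or.inl rfl, c⟩
    · exact ⟨h, a, b, c1, Or.inr (Or.inl rfl), c⟩
  · refine (odd2 x h1 h2 h3).imp id ?_
    rintro ⟨h, a, b, c | c⟩
    · exact ⟨h, a, b, c0, Or.inl rfl, c⟩
    · exact ⟨h, a, b, c2, Or.inr (Or.inl rfl), c⟩

theorem conj0 : ∀ c : S6, c * c = 1 → c ≠ 1 → Perm.sign c = 1 → c.cycleType = c0.cycleType := by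
  decide +kernel

/-- `A₆ ≤ S₃ × S₆` -/
def AA : Subgroup HH := (alternatingGroup (Fin 6)).map (MonoidHom.inr _ _)
/-- `S₆ ≤ S₃ × S₆` -/
def AA1 : Subgroup HH := (⊤ : Subgroup S6).map (MonoidHom.inr _ _)
/-- an element of order 3 of `S₃` -/
def ρ0 : HH := (swap 0 1 * swap 0 2, 1)

theorem mem_AA {h : HH} : h ∈ AA ↔ h.1 = 1 ∧ Perm.sign h.2 = 1 :=
  ⟨by rintro ⟨x, hx, rfl⟩; exact ⟨rfl, hx⟩, fun ⟨a, b⟩ => ⟨h.2, b, Prod.ext a.symm rfl⟩⟩

theorem mem_AA1 {h : HH} : h ∈ AA1 ↔ h.1 = 1 :=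
  ⟨by rintro ⟨x, -, rfl⟩; rfl, fun a => ⟨h.2, trivial, Prod.ext a.symm rfl⟩⟩

theorem s3_two {s : Perm (Fin 3)} {k : ℕ} (h : s ^ 2 ^ k = 1) (hs : Perm.sign s = 1) : s = 1 := by
  have h3 : s ^ 3 = 1 := by clear h; revert s; decide
  have := Nat.dvd_gcd (orderOf_dvd_of_pow_eq_one h) (orderOf_dvd_of_pow_eq_one h3)
  rwa [Nat.Coprime.pow_left k (by norm_num), Nat.dvd_one, orderOf_eq_one_iff] at this

theorem grp : Grp AA AA1 ρ0 where
  ρ3 := by decide
  ρne := by decide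
  le := map_mono le_top
  norm := fun h x hx => mem_AA.2 ⟨by simp [(mem_AA.1 hx).1], by simp [(mem_AA.1 hx).2]⟩
  comm := fun h hh => Prod.ext (by simp [mem_AA1.1 hh]) (by simp [ρ0])
  dich := fun h k hk => by
    rcases Int.units_eq_one_or (Perm.sign h.1) with e | e
    · exact Or.inl (mem_AA1.2 (s3_two (congrArg Prod.fst hk) e))
    · refine Or.inr (Prod.ext ?_ (by simp [ρ0]))
      have : ∀ s : Perm (Fin 3), Perm.sign s = -1 → s * ρ0.1 = ρ0.1 * ρ0.1 * s := by decide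
      exact this _ e
  idx1 := fun Y hY => (card_le_two_mul (Perm.sign.comp (MonoidHom.fst _ _)) Y).trans
    (Nat.mul_le_mul_left _ (card_le_of_le fun h hh => ⟨hh.1, by
      obtain ⟨k, hk⟩ := hY ⟨h, hh.1⟩
      exact mem_AA1.2 (s3_two (congrArg (fun x : Y => (x : HH).1) hk) hh.2)⟩))
  idx2 := fun Y => (card_le_two_mul (H := HH) (Perm.sign.comp (MonoidHom.snd _ _)) _).trans
    (Nat.mul_le_mul_left _ (card_le_of_le fun h hh => ⟨hh.1.1, 
      mem_AA.2 ⟨mem_AA1.1 hh.1.2, by simpa using (mem_inf.1 hh).2⟩⟩))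
  mul := fun x hx y hy h1 h2 => by
    rw [mem_AA1] at hx hy
    rw [mem_AA, not_and] at h1 h2
    refine mem_AA.2 ⟨by simp [hx, hy], ?_⟩
    rw [Prod.snd_mul, map_mul, (Int.units_eq_one_or _).resolve_left (h1 hx),
      (Int.units_eq_one_or _).resolve_left (h2 hy)]
    simp
  sq := fun h hh => mem_AA.2 ⟨s3_two (k := 1) (by
      have := congrArg Prod.fst hh
      rw [pow_one, Prod.fst_mul, ← _root_.sq, ← pow_mul]; exact this) (by simp), by simp⟩
  flag := fun c hc h1 h2 => by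
    obtain ⟨a, b⟩ := mem_AA.1 hc
    obtain ⟨k, hk⟩ := isConj_iff.1 (Perm.isConj_iff_cycleType_eq.2 (conj0 c.2 (congrArg Prod.snd h1)
      (fun e => h2 (Prod.ext a e)) b).symm)
    have := (flag0.map (MulAut.conj k).toMonoidHom (MulAut.conj k).injective).map
      (MonoidHom.inr (Perm (Fin 3)) S6) (fun _ _ e => congrArg Prod.snd e)
    rw [show (alternatingGroup (Fin 6)).map (MulAut.conj k).toMonoidHom = _ from
      Normal.map_conj_eq _ k, map_top_of_surjective _ (MulAut.conj k).surjective,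
      show MonoidHom.inr (Perm (Fin 3)) S6 ((MulAut.conj k).toMonoidHom c0) = c from
        Prod.ext a.symm hk] at this
    exact ⟨_, _, _, _, _, this⟩
  simple := fun K hK hn => by
    haveI : IsSimpleGroup (alternatingGroup (Fin 6)) := alternatingGroup.isSimpleGroup (by simp)
    let φ : alternatingGroup (Fin 6) →* HH := (MonoidHom.inr _ _).comp (Subgroup.subtype _)
    haveI : (K.comap φ).Normal := ⟨fun k hk a => by
      rw [mem_comap, map_mul, map_mul, map_inv]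
      exact hn _ ⟨a, a.2, rfl⟩ _ hk⟩
    rcases this.eq_bot_or_eq_top with e | e
    · refine Or.inl (eq_bot_iff.2 fun k hk => ?_)
      obtain ⟨x, hx, rfl⟩ := hK hk
      have : (⟨x, hx⟩ : alternatingGroup (Fin 6)) ∈ K.comap φ := hk
      rw [e, mem_bot] at this
      rw [show x = 1 from congrArg Subtype.val this, map_one]
      exact one_mem _
    · refine Or.inr (le_antisymm hK ?_)
      rintro _ ⟨x, hx, rfl⟩
      exact (show (⟨x, hx⟩ : alternatingGroup (Fin 6)) ∈ K.comap φ from e ▸ mem_top _)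
  inv := ⟨(1, c0), mem_AA.2 ⟨rfl, flag0.mem⟩, Prod.ext rfl flag0.sq,
    fun e => flag0.ne (congrArg Prod.snd e)⟩

end CfsgLib.Small9
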