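import Mathlib
import Cfsg.Agent.Lib.ExtraTwo.Coord
import Cfsg.Agent.Lib.Small9.Grp

/-!
Faithful 8-dimensional orthogonal modules over `ZMod 2` for subgroups of `S₃ × S₆` containing
`3 × A₆`.
-/

set_option autoImplicit false
set_option linter.unusedSectionVars false

namespace CfsgLib.Small9

open Subgroup Module CfsgLib.ExtraTwo
open QuadraticMap (polar polarBilin polar_add_left polar_add_right polar_comm)

variable {H : Type*} [Group H] {V : Type*} [AddCommGroup V] [Module (ZMod 2) V] [Finite V]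

/-- `h - 1` -/
def Tm (a : H →* (V ≃ₗ[ZMod 2] V)) (h : H) : V →ₗ[ZMod 2] V := (a h : V →ₗ[ZMod 2] V) + 1

/-- `C_V(h)` -/
def Fx (a : H →* (V ≃ₗ[ZMod 2] V)) (h : H) : Submodule (ZMod 2) V := LinearMap.ker (Tm a h)

/-- `[V, h]` -/
def Im (a : H →* (V ≃ₗ[ZMod 2] V)) (h : H) : Submodule (ZMod 2) V := LinearMap.range (Tm a h)

/-- the orthogonal complement -/
def pp (q : QuadraticForm (ZMod 2) V) (S : Submodule (ZMod 2) V) : Submodule (ZMod 2) V :=
  (LinearMap.BilinForm.orthogonal (polarBilin q) S).copy {v | ∀ s ∈ S, polar q s v = 0} rfl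

theorem pp_eq (q : QuadraticForm (ZMod 2) V) (S : Submodule (ZMod 2) V) :
    pp q S = LinearMap.BilinForm.orthogonal (polarBilin q) S := Submodule.copy_eq _ _ _

/-- `S` is invariant under `h` -/
def Inv (a : H →* (V ≃ₗ[ZMod 2] V)) (h : H) (S : Submodule (ZMod 2) V) : Prop :=
  ∀ v ∈ S, a h v ∈ S

/-- a faithful orthogonal module of dimension 8 -/
structure Md (A A1 : Subgroup H) (ρ : H) (q : QuadraticForm (ZMod 2) V)
    (a : H →* (V ≃ₗ[ZMod 2] V)) : Prop extends Grp A A1 ρ where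
  iso : ∀ h v, q (a h v) = q v
  faith : ∀ h, (∀ v, a h v = v) → h = 1
  nd : (polarBilin q).Nondegenerate
  dim : finrank (ZMod 2) V = 8

local notation "dim" => finrank (ZMod 2)
local notation "two" => add_self_zmod2

variable {a : H →* (V ≃ₗ[ZMod 2] V)} {q : QuadraticForm (ZMod 2) V}

omit [Finite V] in
theorem ch2 {x : V} (h : (1 : ZMod 2) • x = 0) : x = 0 := by rwa [one_smul] at h

theorem Tm_apply (h : H) (v : V) : Tm a h v = a h v + v := rfl

theorem mem_Fx {h : H} {v : V} : v ∈ Fx a h ↔ a h v = v := by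
  rw [Fx, LinearMap.mem_ker, Tm_apply, add_eq_zero_zmod2]

theorem mem_Im {h : H} {v : V} : v ∈ Im a h ↔ ∃ w, a h w + w = v := Iff.rfl

theorem T_mem (h : H) (v : V) : a h v + v ∈ Im a h := ⟨v, rfl⟩

theorem mem_pp {S : Submodule (ZMod 2) V} {v : V} : v ∈ pp q S ↔ ∀ s ∈ S, polar q s v = 0 :=
  Iff.rfl

theorem pp_anti {S S' : Submodule (ZMod 2) V} (h : S ≤ S') : pp q S' ≤ pp q S :=
  fun _ hv s hs => hv s (h hs)

theorem a_mul (g h : H) (v : V) : a (g * h) v = a g (a h v) := by rw [map_mul]; rfl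

theorem a_one (v : V) : a 1 v = v := by rw [map_one]; rfl

theorem a_inv (g : H) (v : V) : a g⁻¹ (a g v) = v := by rw [← a_mul, inv_mul_cancel, a_one]

theorem a_inv' (g : H) (v : V) : a g (a g⁻¹ v) = v := by rw [← a_mul, mul_inv_cancel, a_one]

theorem a_sq {h : H} (hh : h * h = 1) (v : V) : a h (a h v) = v := by rw [← a_mul, hh, a_one]

theorem a_comm {g h : H} (e : g * h = h * g) (v : V) : a g (a h v) = a h (a g v) := by
  rw [← a_mul, e, a_mul]

theorem b_self (v : V) : polar q v v = 0 := by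
  rw [QuadraticMap.polar_self, two_smul, CharTwo.add_self_eq_zero]

theorem q_add (v w : V) : q (v + w) = q v + q w + polar q v w := QuadraticMap.map_add q v w

theorem card_eq (S : Submodule (ZMod 2) V) : Nat.card S = 2 ^ dim S := by
  rw [Module.natCard_eq_pow_finrank (K := ZMod 2), Nat.card_zmod]

theorem dim_map (T : V →ₗ[ZMod 2] V) (S : Submodule (ZMod 2) V) :
    dim (S.map T) + dim (S ⊓ LinearMap.ker T : Submodule (ZMod 2) V) = dim S := by
  rw [← LinearMap.finrank_range_add_finrank_ker (T.domRestrict S), LinearMap.range_domRestrict,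
    LinearMap.ker_domRestrict, ← Submodule.finrank_map_subtype_eq S, Submodule.map_comap_subtype]

theorem dim_le_one {S : Submodule (ZMod 2) V} {f : V} (h : ∀ v ∈ S, v = 0 ∨ v = f) : dim S ≤ 1 := by
  refine (Submodule.finrank_mono (show S ≤ Submodule.span _ {f} from fun v hv => ?_)).trans
    (finrank_span_le_card _ |>.trans (by simp))
  rcases h v hv with rfl | rfl
  exacts [zero_mem _, Submodule.mem_span_singleton_self _]

theorem exists_ne {S : Submodule (ZMod 2) V} (h : 2 ≤ dim S) (f : V) : ∃ v ∈ S, v ≠ 0 ∧ v ≠ f := by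
  by_contra! h'
  have := dim_le_one (S := S) (f := f) fun v hv => by
    by_cases e : v = 0
    exacts [Or.inl e, Or.inr (h' v hv e)]
  omega

theorem exists_ne_zero {S : Submodule (ZMod 2) V} (h : 1 ≤ dim S) : ∃ v ∈ S, v ≠ 0 := by
  by_contra! h'
  rw [(Submodule.eq_bot_iff S).2 h', finrank_bot] at h
  omega

theorem dim_pos {S : Submodule (ZMod 2) V} {v : V} (hv : v ∈ S) (h : v ≠ 0) : 1 ≤ dim S := by
  by_contra h'
  rw [Submodule.finrank_eq_zero.1 (show dim S = 0 by omega)] at hv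
  exact h hv

theorem dim_lt {S S' : Submodule (ZMod 2) V} (h : S ≤ S') {v : V} (hv : v ∈ S') (hv' : v ∉ S) :
    dim S < dim S' := Submodule.finrank_lt_finrank_of_lt (lt_of_le_of_ne h fun e => hv' (e ▸ hv))

theorem eq_of_dim {S S' : Submodule (ZMod 2) V} (h : S ≤ S') (h' : dim S' ≤ dim S) : S = S' :=
  Submodule.eq_of_le_of_finrank_le h h'

theorem dim_disj {S S' T : Submodule (ZMod 2) V} (h : ∀ v ∈ S, v ∈ S' → v = 0) (h1 : S ≤ T)
    (h2 : S' ≤ T) : dim S + dim S' ≤ dim T := by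
  rw [← Submodule.finrank_sup_add_finrank_inf_eq,
    (Submodule.eq_bot_iff (S ⊓ S')).2 fun v hv => h v hv.1 hv.2, finrank_bot]
  exact Submodule.finrank_mono (sup_le h1 h2)

/-- the fixed space in `S` has small codimension if `[S, h] ≤ {0, f}` -/
theorem dim_fix {S : Submodule (ZMod 2) V} {h : H} {f : V}
    (e : ∀ v ∈ S, a h v + v = 0 ∨ a h v + v = f) :
    dim S ≤ dim (S ⊓ Fx a h : Submodule (ZMod 2) V) + 1 := by
  have := dim_map (Tm a h) S
  have := dim_le_one (S := S.map (Tm a h)) (f := f) (by rintro _ ⟨v, hv, rfl⟩; exact e v hv)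
  unfold Fx; omega

theorem Im_le_Fx {h : H} (hh : h * h = 1) : Im a h ≤ Fx a h := by
  rintro _ ⟨w, rfl⟩
  rw [mem_Fx, Tm_apply, map_add, a_sq hh, add_comm]

theorem Fx_conj {h : H} {v : V} (g : H) (hv : v ∈ Fx a h) : a g v ∈ Fx a (g * h * g⁻¹) := by
  rw [mem_Fx] at hv ⊢
  rw [a_mul, a_mul, a_inv, hv]

theorem Im_conj {h : H} {v : V} (g : H) (hv : v ∈ Im a h) : a g v ∈ Im a (g * h * g⁻¹) := by
  obtain ⟨w, rfl⟩ := mem_Im.1 hv
  exact ⟨a g w, by rw [Tm_apply, a_mul, a_mul, a_inv, map_add]⟩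

theorem inv_Fx {g h : H} (e : g * h = h * g) : Inv a g (Fx a h) := fun v hv => by
  simpa [e] using Fx_conj g hv

theorem inv_Im {g h : H} (e : g * h = h * g) : Inv a g (Im a h) := fun v hv => by
  simpa [e] using Im_conj g hv

theorem Inv.inf {g : H} {S S' : Submodule (ZMod 2) V} (h : Inv a g S) (h' : Inv a g S') :
    Inv a g (S ⊓ S') := fun v hv => ⟨h v hv.1, h' v hv.2⟩

theorem Fx_mul {g h : H} {v : V} (h1 : v ∈ Fx a g) (h2 : v ∈ Fx a h) : v ∈ Fx a (g * h) := by
  rw [mem_Fx] at *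
  rw [a_mul, h2, h1]

theorem Fx_inv {g : H} {v : V} (h1 : v ∈ Fx a g) : v ∈ Fx a g⁻¹ := by
  rw [mem_Fx] at *
  conv_lhs => rw [← h1, a_inv]

theorem exists_fix {h : H} {S : Submodule (ZMod 2) V} (hS : Inv a h S) {v : V} (hv : v ∈ S)
    (h0 : v ≠ 0) (hh : a h (a h v) = v) : ∃ w ∈ S, w ≠ 0 ∧ w ∈ Fx a h := by
  by_cases e : a h v = v
  · exact ⟨v, hv, h0, mem_Fx.2 e⟩
  · exact ⟨a h v + v, add_mem (hS v hv) hv, fun e' => e (add_eq_zero_zmod2.1 e'),
      mem_Fx.2 (by rw [map_add, hh, add_comm])⟩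

theorem pow_modEq {h : H} {p : ℕ} [Fact p.Prime] (hp : h ^ p = 1) {S : Submodule (ZMod 2) V}
    (hS : Inv a h S) : 2 ^ dim S ≡ 2 ^ dim (S ⊓ Fx a h : Submodule (ZMod 2) V) [MOD p] := by
  classical
  letI := Fintype.ofFinite V
  let f : Function.End S := fun v => ⟨a h v, hS v v.2⟩
  have hf : ∀ (n : ℕ) (v : S), ((f ^ n) v : V) = a (h ^ n) v := by
    intro n
    induction n with
    | zero => intro v; simp [a_one]; rfl
    | succ n ih => intro v; rw [pow_succ', pow_succ', a_mul, ← ih]; rfl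
  have := Equiv.Perm.card_fixedPoints_modEq (f := f) (p := p) (n := 1) (by
    funext v; exact Subtype.ext (by rw [pow_one, hf, hp, a_one]; rfl))
  rw [← card_eq, ← card_eq, Nat.card_eq_fintype_card, Nat.card_congr
    (show (S ⊓ Fx a h : Submodule (ZMod 2) V) ≃ f.fixedPoints from
      ⟨fun v => ⟨⟨v, v.2.1⟩, Subtype.ext (mem_Fx.1 v.2.2)⟩,
        fun v => ⟨v.1, v.1.2, mem_Fx.2 (congrArg Subtype.val v.2)⟩, fun _ => rfl, fun _ => rfl⟩),
    Nat.card_eq_fintype_card]
  exact this

namespace Md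
variable {A A1 : Subgroup H} {ρ : H} (m : Md A A1 ρ q a)
include m

theorem b_act (h : H) (v w : V) : polar q (a h v) (a h w) = polar q v w := by
  simp only [polar, ← map_add, m.iso]

theorem b_adj {h : H} (hh : h * h = 1) (v w : V) : polar q (a h v) w = polar q v (a h w) := by
  rw [← m.b_act h, a_sq hh]

theorem q_T (h : H) (v : V) : q (a h v + v) = polar q (a h v) v := by
  rw [q_add, m.iso, CharTwo.add_self_eq_zero, zero_add]

theorem dim_le (S : Submodule (ZMod 2) V) : dim S ≤ 8 := m.dim ▸ S.finrank_le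

theorem dim_pp (S : Submodule (ZMod 2) V) : dim (pp q S) + dim S = 8 := by
  have := LinearMap.BilinForm.finrank_orthogonal m.nd S
  have := m.dim_le S
  have := m.dim
  rw [pp_eq]; omega

theorem pp_pp (S : Submodule (ZMod 2) V) : pp q (pp q S) = S := by
  rw [pp_eq, pp_eq]
  exact LinearMap.BilinForm.orthogonal_orthogonal m.nd (fun x y h => by
    rwa [QuadraticMap.polarBilin_apply_apply, polar_comm] at h) S

theorem eq_zero {v : V} (h : ∀ w, polar q w v = 0) : v = 0 := m.nd.2 v h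

theorem dim_Fx (h : H) : dim (Fx a h) + dim (Im a h) = 8 := by
  have := LinearMap.finrank_range_add_finrank_ker (Tm a h)
  have := m.dim
  unfold Fx Im; omega

theorem pp_Im (h : H) : pp q (Im a h) = Fx a h := by
  refine (eq_of_dim (fun v hv => ?_) (by have := m.dim_pp (Im a h); have := m.dim_Fx h; omega)).symm
  rintro _ ⟨w, rfl⟩
  rw [Tm_apply, polar_add_left, ← m.b_act h w v, mem_Fx.1 hv, CharTwo.add_self_eq_zero]

theorem pp_Fx (h : H) : pp q (Fx a h) = Im a h := by rw [← m.pp_Im, m.pp_pp]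

theorem b_Im_Fx {h : H} {v w : V} (hv : v ∈ Im a h) (hw : w ∈ Fx a h) : polar q v w = 0 :=
  (m.pp_Im h ▸ hw : w ∈ pp q (Im a h)) v hv

theorem iso_le {S : Submodule (ZMod 2) V} (h : S ≤ pp q S) : dim S ≤ 4 := by
  have := Submodule.finrank_mono h
  have := m.dim_pp S
  omega

theorem Im_ne {h : H} (h1 : h ≠ 1) : 1 ≤ dim (Im a h) := by
  by_contra! e
  refine h1 (m.faith h fun v => add_eq_zero_zmod2.1 ?_)
  have := T_mem (a := a) h v
  rwa [Submodule.finrank_eq_zero.1 (show dim (Im a h) = 0 by omega)] at this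

theorem rho_rel {v : V} (hv : v ∈ Im a ρ) : a ρ (a ρ v) = a ρ v + v := by
  obtain ⟨w, rfl⟩ := mem_Im.1 hv
  have : a ρ (a ρ (a ρ w)) = w := by rw [← a_mul, ← a_mul, m.ρ3, a_one]
  simp only [map_add, this]
  linear_combination (norm := (apply ch2; match_scalars <;> decide))

theorem rho_disj {v : V} (hv : v ∈ Im a ρ) (h : v ∈ Fx a ρ) : v = 0 := by
  have := m.rho_rel hv
  rw [mem_Fx.1 h, mem_Fx.1 h, two] at this
  exact this

theorem q_rho {v : V} (hv : v ∈ Im a ρ) : q v = polar q (a ρ v) v := by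
  rw [← m.q_T, ← m.rho_rel hv, m.iso, m.iso]

theorem even_dim {S : Submodule (ZMod 2) V} (hS : Inv a ρ S) (h : S ≤ Im a ρ) : Even (dim S) := by
  haveI : Fact (Nat.Prime 3) := ⟨Nat.prime_three⟩
  have := pow_modEq (p := 3) (by rw [pow_three, ← mul_assoc, m.ρ3]) hS
  rw [(Submodule.eq_bot_iff (S ⊓ Fx a ρ)).2 fun v hv => m.rho_disj (h hv.1) hv.2, finrank_bot] at this
  have := m.dim_le S
  generalize dim S = n at *
  interval_cases n <;> simp_all [Nat.ModEq] <;> decide

theorem dim_five {g : H} (hg : g ^ 5 = 1) {S : Submodule (ZMod 2) V} (hS : Inv a g S) :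
    dim S % 4 = dim (S ⊓ Fx a g : Submodule (ZMod 2) V) % 4 := by
  haveI : Fact (Nat.Prime 5) := ⟨Nat.prime_five⟩
  have := pow_modEq hg hS
  have := m.dim_le S
  have := m.dim_le (S ⊓ Fx a g)
  generalize dim S = n at *
  generalize dim (S ⊓ Fx a g : Submodule (ZMod 2) V) = k at *
  interval_cases n <;> interval_cases k <;> simp_all [Nat.ModEq]

theorem dim_semi {x : H} (hx : x * ρ = ρ * ρ * x) {S : Submodule (ZMod 2) V} (hS : Inv a ρ S)
    (h : S ≤ Im a ρ) : 2 * dim (S ⊓ Fx a x : Submodule (ZMod 2) V) ≤ dim S := by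
  have := dim_disj (S := S ⊓ Fx a x) (S' := (S ⊓ Fx a x).map (a ρ : V →ₗ[ZMod 2] V)) (T := S)
    (by
      rintro _ ⟨h1, h2⟩ ⟨w, hw, rfl⟩
      refine m.rho_disj (h h1) (mem_Fx.2 ?_)
      have := mem_Fx.1 h2
      simp only [LinearEquiv.coe_coe] at this ⊢
      rwa [← a_mul, hx, a_mul, a_mul, mem_Fx.1 hw.2] at this)
    inf_le_left (by rintro _ ⟨w, hw, rfl⟩; exact hS w hw.1)
  rw [LinearEquiv.finrank_map_eq] at this
  omega

theorem phi5 {g : H} (hg : g ^ 5 = 1) (w : V) :
    a g (a g (a g (a g (a g w)))) = w := by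
  simp only [← a_mul]
  rw [show g * (g * (g * (g * g))) = g ^ 5 by simp [pow_succ, mul_assoc], hg, a_one]

/-- two involutions of type `a₂` do not generate a dihedral group of order 10 -/
theorem a2 {c d : H} (hc : c * c = 1) (hd : d * d = 1) (h5 : (c * d) ^ 5 = 1)
    (h1 : dim (Im a c) ≤ 2) (h2 : dim (Im a d) ≤ 2) (s1 : ∀ v ∈ Im a c, q v = 0)
    (s2 : ∀ v ∈ Im a d, q v = 0) : c * d = 1 := by
  have key : ∀ {c d : H}, c * c = 1 → d * d = 1 → (c * d) ^ 5 = 1 → dim (Im a c) ≤ 2 →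
      (∀ v ∈ Im a c, q v = 0) → (∀ v ∈ Im a d, q v = 0) → Im a c ≤ Fx a d := by
    intro c d hc hd h5 h1 s1 s2
    have hθ : ∀ l ∈ Im a c, a c (a d l + l) + (a d l + l) = 0 ∨ a c (a d l + l) + (a d l + l) = l := by
      intro l hl
      by_contra! hne
      set x := a d l + l with hx
      have l0 : l ≠ 0 := by rintro rfl; simp [hx] at hne
      refine hne.1 (add_eq_zero_zmod2.2 (mem_Fx.1 (m.pp_Im c ▸ fun s hs => ?_)))
      have b1 : polar q l x = 0 := by
        rw [hx, polar_add_right, b_self, add_zero, polar_comm, ← m.q_T]; exact s2 _ (T_mem _ _)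
      have b2 : polar q (a c x + x) x = 0 := by
        rw [polar_add_left, b_self, add_zero, ← m.q_T]; exact s1 _ (T_mem _ _)
      have : Im a c ⊓ pp q (Submodule.span _ {x}) = Im a c := by
        refine eq_of_dim inf_le_left (h1.trans ?_)
        have e : ∀ v, polar q v x = 0 → v ∈ pp q (Submodule.span _ {x}) := fun v hv s hs => by
          obtain ⟨r, rfl⟩ := Submodule.mem_span_singleton.1 hs
          rw [QuadraticMap.polar_smul_left, polar_comm, hv, smul_zero]
        by_contra! hlt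
        have := dim_lt (S := Submodule.span (ZMod 2) {l}) (S' := Im a c ⊓ pp q (Submodule.span _ {x}))
          (Submodule.span_le.2 (by rintro _ rfl; exact ⟨hl, e _ b1⟩)) ⟨T_mem c x, e _ b2⟩ (by
            rw [Submodule.mem_span_singleton]
            rintro ⟨r, hr⟩
            rcases zmod2_cases r with rfl | rfl
            · exact hne.1 (by rw [← hr, zero_smul])
            · exact hne.2 (by rw [← hr, one_smul]))
        rw [finrank_span_singleton l0] at this
        omega
      rw [polar_comm]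
      rw [← this] at hs
      exact mem_pp.1 (Submodule.mem_inf.1 hs).2 x (Submodule.mem_span_singleton_self x)
    intro l hl
    have e : ∀ l ∈ Im a c, a c (a d l) = a c (a d l + l) + (a d l + l) + a d l := fun l hl => by
      rw [map_add, mem_Fx.1 (Im_le_Fx hc hl)]
      linear_combination (norm := (apply ch2; match_scalars <;> decide))
    have h5' := m.phi5 h5 l
    simp only [a_mul] at h5'
    have hl' := mem_Fx.1 (Im_le_Fx hc hl)
    rw [mem_Fx]
    rcases hθ l hl with h | h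
    · have e1 := e l hl
      rw [h, zero_add] at e1
      simp only [e1, a_sq hd, hl'] at h5'
      exact h5'
    · have e1 := e l hl
      rw [h] at e1
      simp only [e1, map_add, a_sq hd, hl'] at h5'
      linear_combination (norm := (apply ch2; match_scalars <;> decide)) h5'
  have k1 := key hc hd h5 h1 s1 s2
  have k2 := key hd hc (by
    rw [show d * c = d * (c * d) * d⁻¹ by group, conj_pow, h5]; simp) h2 s2 s1
  have h4 : c * d * (c * d) = 1 := m.faith _ fun v => by
    have e1 := mem_Fx.1 (k1 (T_mem c v))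
    have e2 := mem_Fx.1 (k2 (T_mem d v))
    simp only [map_add] at e1 e2
    have e : a d (a c v) = a c (a d v) := by linear_combination (norm := (apply ch2; match_scalars <;> decide)) e1 + e2
    simp only [a_mul]
    rw [← e, a_sq hd, a_sq hc]
  rw [← h5, show (c * d) ^ 5 = c * d * (c * d) * (c * d * (c * d)) * (c * d) by simp [pow_succ, mul_assoc],
    h4]
  simp

end Md

end CfsgLib.Small9
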