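import Mathlib
import Cfsg.Agent.Lib.Small9.Lin

/-!
The two types of faithful 8-dimensional orthogonal modules for `3 × A₆`.
-/

set_option autoImplicit false
set_option linter.unusedSectionVars false

namespace CfsgLib.Small9

open Subgroup Module CfsgLib.ExtraTwo
open QuadraticMap (polar polarBilin polar_add_left polar_add_right polar_comm)

variable {H : Type*} [Group H] {V : Type*} [AddCommGroup V] [Module (ZMod 2) V] [Finite V]

local notation "dim" => finrank (ZMod 2)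

variable {a : H →* (V ≃ₗ[ZMod 2] V)} {q : QuadraticForm (ZMod 2) V}

/-- type I: `V` is an `𝔽₄`-space -/
def TI (a : H →* (V ≃ₗ[ZMod 2] V)) (A : Subgroup H) (ρ : H) : Prop :=
  Im a ρ = ⊤ ∧ ∀ g ∈ A, g ^ 5 = 1 → g ≠ 1 → ∀ v ∈ Fx a g, v = 0

/-- type II: `A₆` centralizes the plane `[V, ρ]` -/
def TII (a : H →* (V ≃ₗ[ZMod 2] V)) (A : Subgroup H) (ρ : H) : Prop :=
  dim (Im a ρ) = 2 ∧ ∀ h ∈ A, Im a ρ ≤ Fx a h

/-- an involution of type `a₄` -/
def A4 (a : H →* (V ≃ₗ[ZMod 2] V)) (q : QuadraticForm (ZMod 2) V) (h : H) : Prop :=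
  h * h = 1 ∧ Im a h = Fx a h ∧ ∀ v ∈ Im a h, q v = 0

theorem two_le_dim {S : Submodule (ZMod 2) V} {v w : V} (hv : v ∈ S) (hw : w ∈ S) (h1 : v ≠ 0)
    (h2 : w ≠ 0) (h3 : w ≠ v) : 2 ≤ dim S := by
  have := dim_lt (S := Submodule.span (ZMod 2) {v}) (S' := S)
    (Submodule.span_le.2 (by rintro _ rfl; exact hv)) hw (by
      rw [Submodule.mem_span_singleton]
      rintro ⟨r, hr⟩
      rcases zmod2_cases r with rfl | rfl
      · exact h2 (by rw [← hr, zero_smul])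
      · exact h3 (by rw [← hr, one_smul]))
  rw [finrank_span_singleton h1] at this
  omega

theorem dim_sup_le (S T : Submodule (ZMod 2) V) :
    dim (S ⊔ T : Submodule (ZMod 2) V) ≤ dim S + dim T := Submodule.finrank_add_le_finrank_add_finrank S T

theorem mem_perp {v w : V} : w ∈ pp q (Submodule.span _ {v}) ↔ polar q v w = 0 :=
  ⟨fun h => h v (Submodule.mem_span_singleton_self v), fun h s hs => by
    obtain ⟨r, rfl⟩ := Submodule.mem_span_singleton.1 hs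
    rw [QuadraticMap.polar_smul_left, h, smul_zero]⟩

namespace Md
variable {A A1 : Subgroup H} {ρ : H} (m : Md A A1 ρ q a)
include m

theorem dim_inf (S T : Submodule (ZMod 2) V) :
    dim S + dim T ≤ 8 + dim (S ⊓ T : Submodule (ZMod 2) V) := by
  have := Submodule.finrank_sup_add_finrank_inf_eq S T
  have := m.dim_le (S ⊔ T)
  omega

theorem dim_perp (v : V) : 7 ≤ dim (pp q (Submodule.span _ {v})) := by
  have := m.dim_pp (Submodule.span _ {v})
  have := (finrank_span_le_card (R := ZMod 2) ({v} : Set V)).trans (show _ ≤ 1 by simp)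
  omega

theorem Im_iso {h : H} (hh : h * h = 1) : Im a h ≤ pp q (Im a h) := m.pp_Im h ▸ Im_le_Fx hh

theorem dim_Im_le {h : H} (hh : h * h = 1) : dim (Im a h) ≤ 4 := m.iso_le (m.Im_iso hh)

theorem q_Im {h : H} (hh : h * h = 1) {v w : V} (hv : v ∈ Im a h) (hw : w ∈ Im a h) :
    q (v + w) = q v + q w := by rw [q_add, m.Im_iso hh hw v hv, add_zero]

theorem exists_sing {h : H} (hh : h * h = 1) (h2 : 2 ≤ dim (Im a h)) :
    ∃ v ∈ Im a h, v ≠ 0 ∧ q v = 0 := by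
  obtain ⟨u, hu, u0⟩ := exists_ne_zero (S := Im a h) (by omega)
  obtain ⟨v, hv, v0, vu⟩ := exists_ne h2 u
  by_contra! e
  refine e _ (add_mem hv hu) (fun e' => vu (add_eq_zero_zmod2.1 e')) ?_
  rw [m.q_Im hh hv hu, zmod2_ne_zero.1 (e v hv v0), zmod2_ne_zero.1 (e u hu u0)]; rfl

theorem Im_le_W {h : H} (hU : Im a ρ ≤ Fx a h) : Im a h ≤ Fx a ρ := by
  rw [← m.pp_Fx h, ← m.pp_Im ρ]; exact pp_anti hU

theorem dim_W {h : H} (hh : h * h = 1) (hU : Im a ρ ≤ Fx a h) :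
    2 * dim (Im a h) + dim (Im a ρ) ≤ 8 := by
  have := dim_disj (fun v h1 h2 => m.rho_disj h2 (m.Im_le_W hU h1)) (Im_le_Fx hh) hU
  have := m.dim_Fx h
  omega

theorem mem_Im_of {h : H} (hh : h * h = 1) (hU : Im a ρ ≤ Fx a h)
    (e : 2 * dim (Im a h) + dim (Im a ρ) = 8) {v : V} (hv : v ∈ Fx a h) :
    ∃ i ∈ Im a h, ∃ u ∈ Im a ρ, i + u = v := by
  have h1 : Im a h ⊔ Im a ρ = Fx a h := eq_of_dim (sup_le (Im_le_Fx hh) hU) (by
    have := dim_disj (fun v h1 h2 => m.rho_disj h2 (m.Im_le_W hU h1)) le_sup_left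
      (le_sup_right (a := Im a h))
    have := m.dim_Fx h
    omega)
  exact Submodule.mem_sup.1 (h1 ▸ hv)

theorem not_sing {c c' c'' y' y'' g : H} (F : Flag A A1 c c' c'' y' y'' g) (h : dim (Im a c) ≤ 2) :
    ¬ ∀ v ∈ Im a c, q v = 0 := fun s => by
  have e : Im a (g * c * g⁻¹) ≤ (Im a c).map (a g : V →ₗ[ZMod 2] V) := fun v hv =>
    ⟨a g⁻¹ v, by simpa [mul_assoc] using Im_conj g⁻¹ hv, a_inv' g v⟩
  refine F.g5' (m.a2 F.sq (by rw [conj_mul, F.sq]; simp) F.g5 h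
    ((Submodule.finrank_mono e).trans ((Submodule.finrank_map_le _ _).trans h)) s fun v hv => ?_)
  obtain ⟨w, hw, rfl⟩ := e hv
  exact (m.iso g w).trans (s w hw)

theorem dim_Fx_five {g : H} (h5 : g ^ 5 = 1) (h1 : g ≠ 1) : dim (Fx a g) ≤ 4 := by
  have := m.dim_five h5 (S := ⊤) fun _ _ => trivial
  rw [top_inf_eq, finrank_top, m.dim] at this
  have := m.dim_Fx g
  have := m.Im_ne h1
  omega

theorem five_fpf {g : H} (hg : g ∈ A) (h5 : g ^ 5 = 1) (hU : ¬ Im a ρ ≤ Fx a g) :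
    Im a ρ = ⊤ ∧ ∀ v ∈ Fx a g, v = 0 := by
  have hc : ∀ v, a ρ (a g v) = a g (a ρ v) := fun v => (a_comm (m.comm g (m.le hg)) v).symm
  set Y := (Im a ρ).map (Tm a g) with hY
  have YU : Y ≤ Im a ρ := by
    rintro _ ⟨u, hu, rfl⟩
    exact add_mem (inv_Im (m.comm g (m.le hg)) u hu) hu
  have Yg : Inv a g Y := by
    rintro _ ⟨u, hu, rfl⟩
    exact ⟨a g u, inv_Im (m.comm g (m.le hg)) u hu, by simp [Tm_apply]⟩
  have Yρ : Inv a ρ Y := by
    rintro _ ⟨u, hu, rfl⟩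
    exact ⟨a ρ u, inv_Im rfl u hu, by simp [Tm_apply, hc]⟩
  have Y5 : ∀ y ∈ Y, a g (a g (a g (a g y))) = a g (a g (a g y)) + a g (a g y) + a g y + y := by
    rintro _ ⟨u, -, rfl⟩
    simp only [Tm_apply, map_add, m.phi5 h5]
    linear_combination (norm := (apply ch2; match_scalars <;> decide))
  -- a nonzero invariant totally singular subspace
  have key : ∀ r : H, (∀ v, a r (a g v) = a g (a r v)) → (∀ v ∈ Y, polar q (a r v) v = q v) →
      ∀ v ∈ Y, v ≠ 0 → a g (a g v) + a r (a g v) + v = 0 → Im a ρ = ⊤ ∧ ∀ v ∈ Fx a g, v = 0 := by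
    intro r hr hq v0 hv0 h0 e0
    set Z := Y ⊓ LinearMap.ker ((a g : V →ₗ[ZMod 2] V) ∘ₗ (a g : V →ₗ[ZMod 2] V) +
      (a r : V →ₗ[ZMod 2] V) ∘ₗ (a g : V →ₗ[ZMod 2] V) + 1)
    have mZ : ∀ v, v ∈ Z ↔ v ∈ Y ∧ a g (a g v) + a r (a g v) + v = 0 := fun v => Iff.rfl
    have Zg : Inv a g Z := fun v hv => (mZ _).2 ⟨Yg v hv.1, by
      rw [hr, ← map_add, ← map_add, ((mZ v).1 hv).2, map_zero]⟩
    have Zs : ∀ v ∈ Z, q v = 0 := fun v hv => by
      have := congrArg (fun w => polar q w (a g v)) ((mZ v).1 hv).2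
      simp only [polar_add_left, m.b_act, hq _ (Yg v hv.1), m.iso, QuadraticMap.polar_zero_left,
        polar_comm q v] at this
      linear_combination this - CharTwo.add_self_eq_zero (polar q (a g v) v)
    have Zf : Z ⊓ Fx a g = ⊥ := (Submodule.eq_bot_iff _).2 fun v hv => by
      have := Y5 v hv.1.1
      simp only [mem_Fx.1 hv.2] at this
      linear_combination (norm := (apply ch2; match_scalars <;> decide)) this
    have Zi : Z ≤ pp q Z := fun v hv w hw => by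
      have := q_add (q := q) w v
      rwa [Zs _ (add_mem hw hv), Zs v hv, Zs w hw, add_zero, zero_add, eq_comm] at this
    have d1 := m.dim_five h5 Zg
    rw [Zf, finrank_bot] at d1
    have d2 := m.iso_le Zi
    have d3 := dim_pos ((mZ v0).2 ⟨hv0, e0⟩) h0
    have Ze : Z = pp q Z := eq_of_dim Zi (by have := m.dim_pp Z; omega)
    refine ⟨eq_of_dim le_top ?_, fun v hv => ?_⟩
    · have : dim (Fx a ρ) = 0 := Submodule.finrank_eq_zero.2 ((Submodule.eq_bot_iff _).2 fun v hv =>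
        m.rho_disj (YU (show v ∈ Z from Ze ▸ pp_anti (inf_le_left.trans YU) (m.pp_Im ρ ▸ hv)).1) hv)
      have := m.dim_Fx ρ
      rw [finrank_top, m.dim]; omega
    · have : v ∈ Z ⊓ Fx a g := ⟨Ze ▸ pp_anti (inf_le_left.trans (LinearMap.map_le_range))
        (m.pp_Im g ▸ hv), hv⟩
      rwa [Zf] at this
  obtain ⟨u, hu, hu'⟩ := SetLike.not_le_iff_exists.1 hU
  have hy : Tm a g u ∈ Y := ⟨u, hu, rfl⟩
  have y0 : Tm a g u ≠ 0 := hu'
  generalize Tm a g u = y at hy y0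
  by_cases e : a g (a g y) + a (ρ * ρ) (a g y) + y = 0
  · refine key (ρ * ρ) (fun v => by simp only [a_mul, hc]) (fun v hv => ?_) y hy y0 e
    rw [a_mul, m.rho_rel (YU hv), polar_add_left, b_self, add_zero, m.q_rho (YU hv)]
  · refine key ρ hc (fun v hv => (m.q_rho (YU hv)).symm) _ (add_mem (add_mem (Yg _ (Yg _ hy))
      (by rw [a_mul]; exact Yρ _ (Yρ _ (Yg _ hy)))) hy) e ?_
    simp only [a_mul, map_add, hc, m.rho_rel (YU hy), Y5 y hy]
    linear_combination (norm := (apply ch2; match_scalars <;> decide))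

theorem dichotomy : TI a A ρ ∨ TII a A ρ := by
  let K : Subgroup H :=
    { carrier := {h | h ∈ A ∧ Im a ρ ≤ Fx a h}
      one_mem' := ⟨one_mem _, fun v _ => mem_Fx.2 (a_one v)⟩
      mul_mem' := fun h1 h2 => ⟨mul_mem h1.1 h2.1, fun v hv => Fx_mul (h1.2 hv) (h2.2 hv)⟩
      inv_mem' := fun h => ⟨inv_mem h.1, fun v hv => Fx_inv (h.2 hv)⟩ }
  obtain ⟨c, hc, h1, h2⟩ := m.inv
  obtain ⟨c', c'', y', y'', g, F⟩ := m.flag c hc h1 h2
  have hy := mul_mem F.h1.ymem F.h2.ymem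
  rcases m.simple K (fun _ h => h.1) (fun x hx k hk => ⟨mul_mem (mul_mem hx hk.1) (inv_mem hx),
    fun v hv => by
      simpa [a_inv'] using Fx_conj x (hk.2 (inv_Im (m.comm _ (m.le (inv_mem hx))) v hv))⟩) with e | e
  · have k : ∀ g ∈ A, g ≠ 1 → ¬ Im a ρ ≤ Fx a g := fun g hg g1 h =>
      g1 (mem_bot.1 (e ▸ (⟨hg, h⟩ : g ∈ K)))
    exact Or.inl ⟨(m.five_fpf hy F.five (k _ hy F.five')).1, fun g hg h5 g1 =>
      (m.five_fpf hg h5 (k g hg g1)).2⟩
  have hU : ∀ h ∈ A, Im a ρ ≤ Fx a h := fun h hh => (show h ∈ K from e ▸ hh).2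
  refine Or.inr ⟨?_, hU⟩
  have d1 := m.even_dim (inv_Im (a := a) (rfl : ρ * ρ = ρ * ρ)) le_rfl
  have d2 := m.Im_ne m.ρne
  have d3 := m.dim_Fx_five F.five F.five'
  have d4 := Submodule.finrank_mono (hU _ hy)
  by_contra hne
  have d5 : dim (Im a ρ) = 4 := by obtain ⟨k, hk⟩ := d1; omega
  have two : ∀ c ∈ A, c * c = 1 → c ≠ 1 → dim (Im a c) = 2 ∧ ¬ ∀ v ∈ Im a c, q v = 0 := by
    intro c hc h1 h2
    obtain ⟨c', c'', y', y'', g, F⟩ := m.flag c hc h1 h2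
    have e1 := m.dim_W h1 (hU c hc)
    have hd : g * c * g⁻¹ ∈ A := mul_mem (mul_mem F.gmem hc) (inv_mem F.gmem)
    have e2 := m.dim_W (show g * c * g⁻¹ * (g * c * g⁻¹) = 1 by rw [conj_mul, h1]; simp) (hU _ hd)
    have e3 := m.dim_inf (Fx a c) (Fx a (g * c * g⁻¹))
    have e4 := Submodule.finrank_mono (show Fx a c ⊓ Fx a (g * c * g⁻¹) ≤ _ from
      fun v hv => Fx_mul hv.1 hv.2)
    have e5 := m.dim_Fx_five F.g5 F.g5'
    have := m.dim_Fx c
    have := m.dim_Fx (g * c * g⁻¹)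
    exact ⟨by omega, m.not_sing F (by omega)⟩
  have uniq : ∀ c ∈ A, c * c = 1 → c ≠ 1 → ∀ v ∈ Im a c, ∀ w ∈ Im a c, v ≠ 0 → w ≠ 0 → q v = 0 →
      q w = 0 → w = v := by
    intro c hc h1 h2 v hv w hw v0 w0 qv qw
    by_contra hne
    refine (two c hc h1 h2).2 fun x hx => ?_
    let S : Submodule (ZMod 2) V :=
      { carrier := {v | v ∈ Im a c ∧ q v = 0}
        zero_mem' := ⟨zero_mem _, map_zero q⟩
        add_mem' := fun h h' => ⟨add_mem h.1 h'.1, by rw [m.q_Im h1 h.1 h'.1, h.2, h'.2, add_zero]⟩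
        smul_mem' := fun r x h => ⟨Submodule.smul_mem _ r h.1, by rw [QuadraticMap.map_smul, h.2, smul_zero]⟩ }
    have : S = Im a c := eq_of_dim (fun _ h => h.1) ((two c hc h1 h2).1.le.trans
      (two_le_dim (S := S) ⟨hv, qv⟩ ⟨hw, qw⟩ v0 w0 hne))
    exact (show x ∈ S from this ▸ hx).2
  obtain ⟨v, hv, v0, qv⟩ := m.exists_sing h1 (two c hc h1 h2).1.ge
  have fix : ∀ {c' c'' y : H}, Half A A1 c c' c'' y → v ∈ Fx a y := by
    intro c' c'' y B
    have n1 : c' ≠ 1 := fun e => h2 (by simpa [e] using B.y1)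
    have e1 : v ∈ Fx a c' := mem_Fx.2 (uniq c hc h1 h2 v hv _ (inv_Im B.comm.symm v hv) v0
      (by simpa using v0) qv ((m.iso _ _).trans qv))
    obtain ⟨i, hi, u, hu, e⟩ := m.mem_Im_of B.sq (hU _ B.mem) (by
      rw [(two c' B.mem B.sq n1).1, d5]) e1
    have u0 : u = 0 := m.rho_disj hu (by
      rw [show u = v + i by linear_combination (norm := (apply ch2; match_scalars <;> decide)) e]
      exact add_mem (m.Im_le_W (hU c hc) hv) (m.Im_le_W (hU _ B.mem) hi))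
    rw [u0, add_zero] at e
    exact mem_Fx.2 (uniq c' B.mem B.sq n1 v (e ▸ hi) _ (B.y1 ▸ Im_conj y hv) v0 (by simpa using v0)
      qv ((m.iso _ _).trans qv))
  have : Im a ρ = Fx a (y' * y'') := eq_of_dim (hU _ hy) (by omega)
  exact v0 (m.rho_disj (this ▸ Fx_mul (fix F.h1) (fix F.h2)) (m.Im_le_W (hU c hc) hv))

/-! ### Type II -/
section two
variable (t : TII a A ρ)
include t

theorem aniso {u : V} (hu : u ∈ Im a ρ) (h : q u = 0) : u = 0 := by
  by_contra u0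
  have : Im a ρ ⊓ pp q (Submodule.span _ {u}) = Im a ρ := eq_of_dim inf_le_left (t.1.le.trans
    (two_le_dim (S := Im a ρ ⊓ pp q (Submodule.span _ {u})) ⟨hu, mem_perp.2 (b_self u)⟩
      ⟨inv_Im rfl u hu, mem_perp.2 (by rw [polar_comm, ← m.q_rho hu, h])⟩ u0 (by simpa using u0)
      fun e => u0 (m.rho_disj hu (mem_Fx.2 e))))
  refine u0 (m.rho_disj hu (m.pp_Im ρ ▸ fun s hs => ?_))
  rw [← this] at hs
  rw [polar_comm]
  exact mem_perp.1 (Submodule.mem_inf.1 hs).2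

theorem U_le {h : H} (h1 : h ∈ A1) (hh : h * h = 1) : Im a ρ ≤ Fx a h := by
  obtain ⟨u, hu, u0⟩ := exists_ne_zero (m.Im_ne m.ρne)
  obtain ⟨w, hw, w0, hw'⟩ := exists_fix (inv_Im (m.comm h h1)) hu u0 (a_sq hh u)
  obtain ⟨k, hk⟩ := m.even_dim ((inv_Im rfl).inf (inv_Fx (m.comm h h1).symm)) inf_le_left
  have := dim_pos (S := Im a ρ ⊓ Fx a h) ⟨hw, hw'⟩ w0
  exact inf_eq_left.1 (eq_of_dim inf_le_left (by rw [t.1]; omega))

theorem exists_ns {x : H} (hx : x * ρ = ρ * ρ * x) : ∃ v ∈ Im a x, q v ≠ 0 := by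
  have := m.dim_semi hx (inv_Im rfl) le_rfl
  obtain ⟨u, hu, hu'⟩ : ∃ u ∈ Im a ρ, u ∉ Fx a x := by
    by_contra! e
    rw [inf_eq_left.2 e, t.1] at this; omega
  refine ⟨_, T_mem x u, fun e => hu' (mem_Fx.2 (add_eq_zero_zmod2.1 (m.aniso t (add_mem ?_ hu) e)))⟩
  obtain ⟨w, rfl⟩ := mem_Im.1 hu
  exact ⟨a ρ (a x w) + a x w, by
    rw [Tm_apply, map_add, map_add, ← a_mul x, hx, a_mul, a_mul]
    linear_combination (norm := (apply ch2; match_scalars <;> decide))⟩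

theorem inv_II {c : H} (hc : c ∈ A) (h1 : c * c = 1) (h2 : c ≠ 1) :
    dim (Im a c) ≤ 2 ∧ ∃ v ∈ Im a c, q v ≠ 0 := by
  obtain ⟨c', c'', y', y'', g, F⟩ := m.flag c hc h1 h2
  have d1 := m.dim_W h1 (t.2 c hc)
  have d2 : dim (Im a c) ≠ 3 := fun d2 => by
    set y := c' * c''
    have hy : y ∈ A := mul_mem F.h1.mem F.h2.mem
    have e1 : (Im a y).map (Tm a y) = Im a c := by
      rw [Im, ← LinearMap.range_comp, Im]
      congr 1
      ext v
      rw [LinearMap.comp_apply, Tm_apply, Tm_apply, Tm_apply, map_add, ← a_mul, F.root]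
      linear_combination (norm := (apply ch2; match_scalars <;> decide))
    have e2 := dim_map (Tm a y) (Im a y)
    have e3 := m.dim_Fx y
    have e4 := dim_disj (S := Im a y ⊓ Fx a y) (fun v h1 h2 =>
      m.rho_disj h2 (m.Im_le_W (t.2 y hy) h1.1)) inf_le_right (t.2 y hy)
    have e5 := (Submodule.finrank_mono (show Fx a y ≤ (Im a y ⊓ Fx a y) ⊔ Im a ρ from fun v hv => by
      obtain ⟨i, hi, u, hu, e⟩ := m.mem_Im_of h1 (t.2 c hc) (by rw [d2, t.1])
        (F.root ▸ Fx_mul hv hv)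
      refine Submodule.mem_sup.2 ⟨i, ⟨?_, ?_⟩, u, hu, e⟩
      · obtain ⟨w, hw, rfl⟩ := (e1 ▸ hi : i ∈ (Im a y).map (Tm a y))
        exact T_mem y w
      · rw [show i = v + u by linear_combination (norm := (apply ch2; match_scalars <;> decide)) e]
        exact add_mem hv (t.2 y hy hu))).trans (dim_sup_le _ _)
    rw [e1] at e2
    have := t.1
    unfold Fx at *
    omega
  have d3 : dim (Im a c) ≤ 2 := by have := t.1; omega
  exact ⟨d3, by simpa using m.not_sing F d3⟩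

end two

end Md

end CfsgLib.Small9
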