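import Mathlib
import Cfsg.Agent.Lib.Small9.Mod

/-!
Type I modules; the configuration `(R, E, t)` coming from a conjugate of `z` inside `Q`.
-/

set_option autoImplicit false
set_option linter.unusedSectionVars false

namespace CfsgLib.Small9

open Subgroup Module CfsgLib.ExtraTwo
open QuadraticMap (polar polarBilin polar_add_left polar_add_right polar_comm)

variable {H : Type*} [Group H] {V : Type*} [AddCommGroup V] [Module (ZMod 2) V] [Finite V]

local notation "dim" => finrank (ZMod 2)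

variable {a : H →* (V ≃ₗ[ZMod 2] V)} {q : QuadraticForm (ZMod 2) V}

theorem two_mul_card_le [Finite H] {P P' : Subgroup H} (h : P ≤ P') {x : H} (hx : x ∈ P')
    (hx' : x ∉ P) : 2 * Nat.card P ≤ Nat.card P' := by
  obtain ⟨k, hk⟩ := card_dvd_of_le h
  have := Nat.card_pos (α := P')
  have : k ≠ 1 := by
    rintro rfl
    exact hx' (eq_of_le_of_card_ge h (by omega) ▸ hx)
  rcases k with _ | _ | k <;> first | omega | nlinarith

theorem exists_not_mem_list {P : Subgroup H} (l : List H) (h : l.length < Nat.card P) :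
    ∃ x ∈ P, x ∉ l := by
  by_contra! e
  have := card_le_length l e
  omega

theorem three_le_card [Finite H] {P : Subgroup H} {x y : H} (hx : x ∈ P) (hy : y ∈ P) (h1 : x ≠ 1)
    (h2 : y ≠ 1) (h3 : x ≠ y) : 3 ≤ Nat.card P := by
  have := Nat.card_le_card_of_injective (![1, ⟨x, hx⟩, ⟨y, hy⟩] : Fin 3 → P) (by
    intro i j
    fin_cases i <;> fin_cases j <;> simp [h1, h2, h3, h1.symm, h2.symm, h3.symm, Subtype.ext_iff])
  simpa using this

/-- the pointwise stabilizer of `S` -/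
def St (a : H →* (V ≃ₗ[ZMod 2] V)) (S : Submodule (ZMod 2) V) : Subgroup H where
  carrier := {h | S ≤ Fx a h}
  one_mem' := fun v _ => mem_Fx.2 (a_one v)
  mul_mem' := fun h1 h2 _ hv => Fx_mul (h1 hv) (h2 hv)
  inv_mem' := fun h _ hv => Fx_inv (h hv)

/-- the four-group `⟨c, c'⟩` -/
def V4 (c c' e : H) : Prop := e = 1 ∨ e = c ∨ e = c' ∨ e = c * c'

theorem V4.comm {c c' e r : H} (h : V4 c c' e) (h1 : r * c = c * r) (h2 : r * c' = c' * r) :
    r * e = e * r := by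
  rcases h with rfl | rfl | rfl | rfl
  exacts [by simp, h1, h2, by rw [← mul_assoc, h1, mul_assoc, h2, mul_assoc]]

theorem V4.fix {c c' e : H} (h : V4 c c' e) {v : V} (h1 : v ∈ Fx a c) (h2 : v ∈ Fx a c') :
    v ∈ Fx a e := by
  rcases h with rfl | rfl | rfl | rfl
  exacts [mem_Fx.2 (a_one v), h1, h2, Fx_mul h1 h2]

section flag
variable {A A1 : Subgroup H} {c c' c'' y' y'' g : H}

theorem Flag.ncomm (F : Flag A A1 c c' c'' y' y'' g) : c'' * c' ≠ c' * c'' := fun e =>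
  F.ne (by rw [← F.root, mul_assoc, ← mul_assoc c'', e, mul_assoc, F.h2.sq, mul_one, F.h1.sq])

theorem Flag.cent4 (F : Flag A A1 c c' c'' y' y'' g) {e : H} (he : e ∈ A) (h1 : e * c = c * e)
    (h2 : e * c' = c' * e) : V4 c c' e := by
  rcases F.cent e he h1 with h | h | h | h | rfl | rfl | rfl | rfl
  exacts [Or.inl h, Or.inr (Or.inl h), Or.inr (Or.inr (Or.inl h)), Or.inr (Or.inr (Or.inr h)),
    absurd h2 F.ncomm, absurd (by
      rwa [mul_assoc, ← mul_assoc c', ← F.h1.comm, mul_assoc, mul_right_inj] at h2) F.ncomm,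
    absurd (by rwa [mul_assoc, mul_right_inj] at h2) F.ncomm,
    absurd (by rw [← mul_assoc, mul_left_inj] at h2; exact h2) F.ncomm]

theorem Half.ne (B : Half A A1 c c' c'' y') (h : c ≠ 1) : c' ≠ 1 := fun e =>
  h (by simpa [e] using B.y1)

theorem Half.ne' (B : Half A A1 c c' c'' y') (h : c ≠ 1) : c ≠ c' := fun e => h (by
  have := B.y2
  rwa [← e, B.y1, ← e, left_eq_mul] at this)

theorem Half.y3' (B : Half A A1 c c' c'' y') (h : c * c = 1) : y'⁻¹ * c * y' = c * c' := by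
  have : y' * (c * c') * y'⁻¹ = c := by
    rw [← conj_mul, B.y1, B.y2, B.comm, ← mul_assoc, B.sq, one_mul]
  nth_rewrite 1 [← this]; group

theorem Half.fix (B : Half A A1 c c' c'' y') {S : Submodule (ZMod 2) V} (h1 : S ≤ Fx a c'')
    (h2 : Inv a y' S) : S ≤ Fx a y' := fun v hv => by
  have : a y'⁻¹ v ∈ S := by
    rw [inv_eq_of_mul_eq_one_left B.y3, a_mul]; exact h2 _ (h2 v hv)
  rw [B.yeq]
  exact Fx_mul (h1 hv) (by simpa [a_inv'] using Fx_conj y' (h1 this))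

end flag

/-- the configuration given by a conjugate of `z` in `Q` -/
structure RE (a : H →* (V ≃ₗ[ZMod 2] V)) (q : QuadraticForm (ZMod 2) V) (R : Subgroup H)
    (E : Submodule (ZMod 2) V) (t : V) : Prop where
  sq : ∀ r ∈ R, r * r = 1
  card : Nat.card R * 2 ^ dim E = 2 ^ 7
  sing : ∀ e ∈ E, q e = 0
  t0 : t ≠ 0
  tE : t ∈ E
  perp : ∀ r ∈ R, ∀ v, polar q t v = 0 → a r v + v ∈ E
  comm : ∀ r ∈ R, ∀ e ∈ E, a r e + e = 0 ∨ a r e + e = t
  move : ∀ e ∈ E, (∀ r ∈ R, e ∈ Fx a r) → e = 0 ∨ e = t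
  fix : ∀ r ∈ R, t ∈ Fx a r
  normR : ∀ h, t ∈ Fx a h → ∀ r ∈ R, h * r * h⁻¹ ∈ R
  normE : ∀ h, t ∈ Fx a h → Inv a h E

theorem RE.iso {R : Subgroup H} {E : Submodule (ZMod 2) V} {t : V} (s : RE a q R E t) :
    E ≤ pp q E := fun v hv w hw => by
  have := q_add (q := q) w v
  rwa [s.sing _ (add_mem hw hv), s.sing v hv, s.sing w hw, add_zero, zero_add, eq_comm] at this

namespace Md
variable [Finite H] {A A1 : Subgroup H} {ρ : H} (m : Md A A1 ρ q a)
include m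

theorem quad {c d : H} (hc : c * c = 1) (hd : d * d = 1) (k1 : Im a c ≤ Fx a d)
    (k2 : Im a d ≤ Fx a c) : (c * d) ^ 2 = 1 := m.faith _ fun v => by
  have e1 := mem_Fx.1 (k1 (T_mem c v))
  have e2 := mem_Fx.1 (k2 (T_mem d v))
  simp only [map_add] at e1 e2
  have e : a d (a c v) = a c (a d v) := by
    linear_combination (norm := (apply ch2; match_scalars <;> decide)) e1 + e2
  simp only [_root_.sq, a_mul]
  rw [← e, a_sq hd, a_sq hc]

theorem card_A1 {Y : Subgroup H} (hY : ∀ y ∈ Y, y * y = 1) :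
    Nat.card (Y ⊓ A1 : Subgroup H) ≤ 8 := by
  have := m.card_elem hY
  have := m.idx2 Y
  omega

theorem exists_A {Y : Subgroup H} (hY : IsPGroup 2 Y) (l : List H)
    (h : 4 * l.length < Nat.card Y) : ∃ c ∈ Y, c ∈ A ∧ c ∉ l := by
  have := m.idx1 Y hY
  have := m.idx2 Y
  obtain ⟨c, hc, h⟩ := exists_not_mem_list (P := Y ⊓ A) l (by omega)
  exact ⟨c, hc.1, hc.2, h⟩

theorem inv_ρ {h : H} (h1 : h ∈ A1) : Inv a ρ (Fx a h) := inv_Fx (m.comm h h1).symm

theorem eight_le {R : Subgroup H} {E : Submodule (ZMod 2) V} {t : V} (s : RE a q R E t) :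
    8 ≤ Nat.card R := by
  have h1 := m.iso_le s.iso
  have h2 := s.card
  have : 2 ^ dim E ≤ 2 ^ 4 := Nat.pow_le_pow_right (by norm_num) h1
  nlinarith

theorem RE_II (t2 : TII a A ρ) {R : Subgroup H} {E : Submodule (ZMod 2) V} {t : V}
    (s : RE a q R E t) : False := by
  obtain ⟨c, hc, hA, h1⟩ := m.exists_A (isPGroup_of_sq s.sq) [1] (by have := m.eight_le s; simp; omega)
  obtain ⟨-, v, hv, qv⟩ := m.inv_II t2 hA (s.sq c hc) (by simpa using h1)
  have ht : t ∈ Fx a ρ := m.Im_le_W (t2.2 c hA) (m.pp_Fx c ▸ fun w hw => by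
    by_contra e
    obtain ⟨u, rfl⟩ := mem_Im.1 hv
    refine qv (s.sing _ ?_)
    by_cases e' : polar q t u = 0
    · exact s.perp c hc u e'
    · have := s.perp c hc (u + w) (by
        rw [polar_add_right, polar_comm q t w, zmod2_ne_zero.1 e, zmod2_ne_zero.1 e']; rfl)
      rwa [map_add, mem_Fx.1 hw, show a c u + w + (u + w) = a c u + u by
        linear_combination (norm := (apply ch2; match_scalars <;> decide))] at this)
  have hE : E ≤ Fx a ρ := fun e he => mem_Fx.2 (add_eq_zero_zmod2.1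
    (m.aniso t2 (T_mem ρ e) (s.sing _ (add_mem (s.normE ρ ht e he) he))))
  have d1 := dim_disj (fun v h1 h2 => m.rho_disj h2 (hE h1)) s.iso
    (m.pp_Fx ρ ▸ pp_anti hE : Im a ρ ≤ pp q E)
  have d2 := m.dim_pp E
  have d3 := s.card
  have d4 : 2 ^ dim E ≤ 2 ^ 3 := Nat.pow_le_pow_right (by norm_num) (by have := t2.1; omega)
  obtain ⟨r, hr, hr'⟩ := m.exists_not_mem (Y := R) (B := A1) (by have := m.card_A1 s.sq; nlinarith)
  have e := m.inv_of_not_mem (isPGroup_of_sq s.sq) hr hr'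
  have k := s.sq _ (mul_mem (s.normR ρ ht r hr) (inv_mem hr))
  have e' : ρ * r * ρ⁻¹ * r⁻¹ = ρ * ρ := by
    rw [inv_eq_of_mul_eq_one_left m.ρ3, mul_assoc ρ r, ← mul_assoc r, e, mul_assoc (ρ * ρ), e]
    calc _ = ρ * ρ * ρ * (ρ * ρ) := by group
      _ = _ := by rw [m.ρ3, one_mul]
  rw [e', ← mul_assoc, m.ρ3, one_mul] at k
  exact m.ρne k

variable (t1 : TI a A ρ)
include t1

theorem even_I {S : Submodule (ZMod 2) V} (hS : Inv a ρ S) : Even (dim S) :=
  m.even_dim hS (t1.1 ▸ le_top)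

theorem two_le_I {S : Submodule (ZMod 2) V} (hS : Inv a ρ S) {v : V} (hv : v ∈ S) (h : v ≠ 0) :
    2 ≤ dim S := by
  have := dim_pos hv h
  obtain ⟨k, hk⟩ := m.even_I t1 hS
  omega

theorem semi_I {x : H} (hx : x * ρ = ρ * ρ * x) {S : Submodule (ZMod 2) V} (hS : Inv a ρ S) :
    2 * dim (S ⊓ Fx a x : Submodule (ZMod 2) V) ≤ dim S := m.dim_semi hx hS (t1.1 ▸ le_top)

theorem dim_inv {x : H} (hx : x * ρ = ρ * ρ * x) : dim (Fx a x) ≤ 4 := by
  have := m.semi_I t1 hx (S := ⊤) fun _ _ => trivial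
  rw [top_inf_eq, finrank_top, m.dim] at this
  omega

theorem sing_I {h : H} (h1 : h ∈ A1) (hh : h * h = 1) {v : V} (hv : v ∈ Im a h) : q v = 0 := by
  rw [m.q_rho (t1.1 ▸ trivial)]
  exact m.Im_iso hh hv _ (inv_Im (m.comm h h1).symm v hv)

theorem dim_A {c : H} (hc : c ∈ A) (h1 : c * c = 1) (h2 : c ≠ 1) : dim (Fx a c) = 4 := by
  obtain ⟨c', c'', y', y'', g, F⟩ := m.flag c hc h1 h2
  have d1 := dim_disj (S := Fx a c) (S' := Fx a (g * c * g⁻¹)) (T := ⊤) (fun v h h' =>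
    t1.2 _ (mul_mem hc (m.norm g c hc)) F.g5 F.g5' v (Fx_mul h h')) le_top le_top
  rw [finrank_top, m.dim] at d1
  have := m.dim_Fx c
  have := m.dim_Fx (g * c * g⁻¹)
  have := m.dim_Im_le h1
  have := m.dim_Im_le (show g * c * g⁻¹ * (g * c * g⁻¹) = 1 by rw [conj_mul, h1]; simp)
  omega

omit t1 in
theorem Im_eq {c : H} (h1 : c * c = 1) (h : dim (Fx a c) ≤ 4) : Im a c = Fx a c :=
  eq_of_dim (Im_le_Fx h1) (by have := m.dim_Fx c; omega)

theorem line {S : Submodule (ZMod 2) V} (hS : Inv a ρ S) (d : dim S ≤ 2) {h : H} (h1 : h ∈ A1)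
    (hh : h * h = 1) (hi : Inv a h S) : S ≤ Fx a h := fun u hu => by
  by_cases u0 : u = 0
  · rw [u0]; exact zero_mem _
  obtain ⟨w, hw, w0, hw'⟩ := exists_fix hi hu u0 (a_sq hh u)
  exact inf_eq_left.1 (eq_of_dim inf_le_left (d.trans
    (m.two_le_I t1 (hS.inf (m.inv_ρ h1)) ⟨hw, hw'⟩ w0))) hu

theorem fixL {c c' c'' y' y'' g : H} (F : Flag A A1 c c' c'' y' y'' g) {r : H} (hr : r ∈ A1)
    (h1 : r * c = c * r) (h2 : r * c' = c' * r)
    (d : dim (Fx a c ⊓ Fx a r : Submodule (ZMod 2) V) ≤ 2) :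
    Fx a c ⊓ Fx a r ≤ Fx a c' ∧ Fx a c ⊓ Fx a r ≤ Fx a c'' ∧ Fx a c ⊓ Fx a r ≤ Fx a y' := by
  have hρ := (m.inv_ρ (m.le F.mem)).inf (m.inv_ρ hr)
  have k1 := m.line t1 hρ d (m.le F.h1.mem) F.h1.sq
    ((inv_Fx F.h1.comm.symm).inf (inv_Fx h2.symm))
  have k : ∀ h ∈ A, V4 c c' (h * c * h⁻¹) → V4 c c' (h * c' * h⁻¹) → V4 c c' (h⁻¹ * c * h) →
      Inv a h (Fx a c ⊓ Fx a r) := by
    intro h hh e1 e2 e3 v hv
    have f : ∀ e, V4 c c' (h * e * h⁻¹) → r * e = e * r → h⁻¹ * r * h * r⁻¹ * e = e * (h⁻¹ * r * h * r⁻¹) := by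
      intro e e1 e2
      calc _ = h⁻¹ * r * h * (r⁻¹ * e * r) * r⁻¹ := by group
        _ = h⁻¹ * (r * (h * e * h⁻¹)) * h * r⁻¹ := by rw [mul_assoc r⁻¹, ← e2]; group
        _ = _ := by rw [e1.comm h1 h2]; group
    have := Fx_mul ((F.cent4 (e := h⁻¹ * r * h * r⁻¹) (by
      rw [mul_assoc, mul_assoc, ← mul_assoc r]; exact mul_mem (inv_mem hh) (m.norm r h hh))
      (f c e1 h1) (f c' e2 h2)).fix hv.1 (k1 hv)) hv.2
    exact ⟨by simpa [mul_assoc] using Fx_conj h (e3.fix hv.1 (k1 hv)),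
      by simpa [mul_assoc] using Fx_conj h this⟩
  have i2 : c''⁻¹ = c'' := inv_eq_of_mul_eq_one_right F.h2.sq
  have e1 : c'' * c * c'' = c := by rw [← F.h2.comm, mul_assoc, F.h2.sq, mul_one]
  have k2 := m.line t1 hρ d (m.le F.h2.mem) F.h2.sq (k _ F.h2.mem (by simp [V4, i2, e1])
    (Or.inr (Or.inr (Or.inr (by
      rw [i2, F.h1.comm, ← F.root, ← mul_assoc, ← mul_assoc, ← mul_assoc, F.h1.sq, one_mul]))))
    (by simp [V4, i2, e1]))
  exact ⟨k1, k2, F.h1.fix k2 (k _ F.h1.ymem (by simp [V4, F.h1.y1]) (by simp [V4, F.h1.y2])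
    (by simp [V4, F.h1.y3' F.sq]))⟩

end Md

end CfsgLib.Small9
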