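import Mathlib
import Cfsg.Agent.Lib.Small9.One

/-!
The configuration `(R, E, t)` in a module of type I.
-/

set_option autoImplicit false
set_option linter.unusedSectionVars false

namespace CfsgLib.Small9

open Subgroup Module CfsgLib.ExtraTwo
open QuadraticMap (polar polarBilin polar_add_left polar_add_right polar_comm)

variable {H : Type*} [Group H] {V : Type*} [AddCommGroup V] [Module (ZMod 2) V] [Finite V]

local notation "dim" => finrank (ZMod 2)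

variable {a : H →* (V ≃ₗ[ZMod 2] V)} {q : QuadraticForm (ZMod 2) V}

namespace Md
variable [Finite H] {A A1 : Subgroup H} {ρ : H} (m : Md A A1 ρ q a) {R : Subgroup H}
  {E : Submodule (ZMod 2) V} {t : V} (s : RE a q R E t)
include m s

theorem three_le {r : H} (hr : r ∈ R) (h : dim (Fx a r) ≤ 4) :
    3 ≤ dim (E ⊓ Fx a r : Submodule (ZMod 2) V) := by
  have d1 := dim_map (Tm a r) (pp q (Submodule.span _ {t}))
  have d2 := m.dim_perp t
  have d3 : dim (pp q (Submodule.span _ {t}) ⊓ Fx a r : Submodule (ZMod 2) V) ≤ _ :=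
    Submodule.finrank_mono inf_le_right
  have d4 := Submodule.finrank_mono (show (pp q (Submodule.span _ {t})).map (Tm a r) ≤ E ⊓ Fx a r by
    rintro _ ⟨v, hv, rfl⟩
    exact ⟨s.perp r hr v (mem_perp.1 hv), Im_le_Fx (s.sq r hr) (T_mem r v)⟩)
  unfold Fx at *
  omega

omit m in
theorem step {S : Submodule (ZMod 2) V} (hS : S ≤ E) (d : 2 ≤ dim S) : ∃ S' ≤ S,
    dim S ≤ dim S' + 1 ∧ 2 * Nat.card (R ⊓ St a S : Subgroup H) ≤ Nat.card (R ⊓ St a S' : Subgroup H) := by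
  obtain ⟨e, he, e0, et⟩ := exists_ne d t
  obtain ⟨r, hr, h⟩ : ∃ r ∈ R, e ∉ Fx a r := by
    by_contra! h
    exact (s.move e (hS he) h).elim e0 et
  exact ⟨S ⊓ Fx a r, inf_le_left, dim_fix fun v hv => s.comm r hr v (hS hv),
    two_mul_card_le (fun x hx => ⟨hx.1, fun _ hv => hx.2 hv.1⟩) (x := r)
      ⟨hr, (inf_le_right : S ⊓ Fx a r ≤ Fx a r)⟩
      fun h' => h (h'.2 he)⟩

variable (t1 : TI a A ρ)
include t1

theorem dim_E : dim E = 4 := by
  by_contra hne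
  have d0 := m.iso_le s.iso
  obtain ⟨c, hc, hA, h1⟩ := m.exists_A (isPGroup_of_sq s.sq) [1] (by have := m.eight_le s; simp; omega)
  have d1 := m.dim_A t1 hA (s.sq c hc) (by simpa using h1)
  have d2 := m.three_le s hc d1.le
  have d3 := s.card
  have d4 : 2 ^ dim E ≤ 2 ^ 3 := Nat.pow_le_pow_right (by norm_num) (by omega)
  obtain ⟨r, hr, hr'⟩ := m.exists_not_mem (Y := R) (B := A1) (by have := m.card_A1 s.sq; nlinarith)
  have e := m.inv_of_not_mem (isPGroup_of_sq s.sq) hr hr'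
  have d5 := m.three_le s hr (m.dim_inv t1 e)
  have d6 := m.semi_I t1 e (m.inv_ρ (m.le hA))
  have d7 := Submodule.finrank_mono (le_inf (inf_eq_left.1 (eq_of_dim inf_le_left (by omega)) :
    E ≤ Fx a c) (inf_eq_left.1 (eq_of_dim inf_le_left (by omega)) : E ≤ Fx a r))
  have := Submodule.finrank_mono (inf_le_left : E ⊓ Fx a c ≤ E)
  omega

theorem card_R : Nat.card R = 8 := by
  have := s.card
  rw [m.dim_E s t1] at this
  omega

theorem faith_E {r : H} (hr : r ∈ R) (h : E ≤ Fx a r) : r = 1 := by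
  have d := m.dim_E s t1
  obtain ⟨S1, l1, d1, c1⟩ := step s le_rfl (by omega)
  obtain ⟨S2, l2, d2, c2⟩ := step s l1 (by omega)
  obtain ⟨S3, l3, d3, c3⟩ := step s (l2.trans l1) (by omega)
  have c4 : _ ≤ Nat.card R := card_le_of_le (inf_le_left : R ⊓ St a S3 ≤ R)
  rw [m.card_R s t1] at c4
  exact mem_bot.1 (eq_bot_of_card_le (H := R ⊓ St a E) (by omega) ▸ (⟨hr, h⟩ : r ∈ R ⊓ St a E))

theorem t_mem_Im {r : H} (hr : r ∈ R) (h : r ≠ 1) : t ∈ Im a r := by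
  by_contra e
  exact h (m.faith_E s t1 hr fun v hv => mem_Fx.2 (add_eq_zero_zmod2.1
    ((s.comm r hr v hv).resolve_right fun e' => e (e' ▸ T_mem r v))))

theorem inter {r r' : H} (hr : r ∈ R) (hr' : r' ∈ R) (h1 : r ∈ A1) (h1' : r' ∈ A1) (hne : r ≠ r')
    (d : dim (Fx a r) = 4) (d' : dim (Fx a r') = 4) :
    dim (Fx a r ⊓ Fx a r' : Submodule (ZMod 2) V) = 2 ∧ Fx a r ⊓ Fx a r' ≤ E := by
  have d1 : dim (Fx a r ⊓ Fx a r' : Submodule (ZMod 2) V) ≤ 2 := by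
    obtain ⟨k, hk⟩ := m.even_I t1 ((m.inv_ρ h1).inf (m.inv_ρ h1'))
    have := Submodule.finrank_mono (inf_le_left : Fx a r ⊓ Fx a r' ≤ _)
    by_contra hlt
    have e : Fx a r = Fx a r' := (eq_of_dim inf_le_left (by omega)).symm.trans
      (eq_of_dim inf_le_right (by omega))
    refine hne (mul_inv_eq_one.1 (m.faith_E s t1 (mul_mem hr (inv_mem hr')) fun v hv => ?_))
    rw [inv_eq_of_mul_eq_one_right (s.sq _ hr')]
    by_cases h : v ∈ Fx a r
    · exact Fx_mul h (e ▸ h)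
    · have e1 := (s.comm r hr v hv).resolve_left fun x => h (mem_Fx.2 (add_eq_zero_zmod2.1 x))
      have e2 := (s.comm r' hr' v hv).resolve_left fun x =>
        h (e ▸ mem_Fx.2 (add_eq_zero_zmod2.1 x))
      rw [mem_Fx, a_mul, add_right_cancel (e2.trans e1.symm), a_sq (s.sq r hr)]
  have d2 := dim_fix fun v hv => s.comm r hr v hv
  have d3 := dim_fix (S := E ⊓ Fx a r) fun v hv => s.comm r' hr' v hv.1
  have d4 := m.dim_E s t1
  have e : E ⊓ Fx a r ⊓ Fx a r' = Fx a r ⊓ Fx a r' :=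
    eq_of_dim (inf_le_inf_right _ inf_le_right) (by omega)
  exact ⟨by rw [e] at d3; omega, e ▸ inf_le_left.trans inf_le_left⟩

theorem exists_flag : (∀ r ∈ R, r ∈ A1 → r ∈ A) ∧
    ∃ c c' c'' y' y'' g, Flag A A1 c c' c'' y' y'' g ∧ c ∈ R ∧ c' ∈ R := by
  have c8 := m.card_R s t1
  have hR := isPGroup_of_sq s.sq
  obtain ⟨c, hc, hA, h1⟩ := m.exists_A hR [1] (by simp; omega)
  replace h1 : c ≠ 1 := by simpa using h1
  have d1 := m.dim_A t1 hA (s.sq c hc) h1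
  obtain ⟨r, hr, hr1, rc, dr⟩ : ∃ r ∈ R, r ∈ A1 ∧ c ≠ r ∧ dim (Fx a r) = 4 := by
    obtain ⟨p, hp, h⟩ := exists_not_mem_list (P := R ⊓ A1) [1, c] (by
      have := m.idx1 R hR; show 2 < _; omega)
    simp only [List.mem_cons, List.not_mem_nil, or_false, not_or] at h
    by_contra! hn
    have k : ∀ r ∈ R, r ∈ A1 → r ≠ 1 → c ≠ r → dim (Im a r) ≤ 2 := fun r hr h1 h2 h3 => by
      obtain ⟨k, hk⟩ := m.even_I t1 (inv_Im (a := a) (m.comm r h1).symm)
      have := hn r hr h1 h3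
      have := m.dim_Fx r
      have := m.dim_Im_le (s.sq r hr)
      omega
    have pc : p * c ≠ 1 := fun e => h.2 (by rw [← mul_one p, ← s.sq c hc, ← mul_assoc, e, one_mul])
    have hpc := mul_mem hp.1 hc
    have hpc1 := mul_mem hp.2 (m.le hA)
    have d2 := m.two_le_I t1 ((inv_Im (m.comm _ hp.2).symm).inf (inv_Im (m.comm _ hpc1).symm))
      ⟨m.t_mem_Im s t1 hp.1 h.1, m.t_mem_Im s t1 hpc pc⟩ s.t0
    have d3 := k p hp.1 hp.2 h.1 (Ne.symm h.2)
    have e : Im a (p * c) ≤ Im a p := inf_eq_right.1 (eq_of_dim inf_le_right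
      ((k _ hpc hpc1 pc fun e => h.1 (by simpa using e)).trans d2))
    have := Submodule.finrank_mono (show Im a c ≤ Im a p by
      rintro _ ⟨w, rfl⟩
      have := add_mem (T_mem p (a (p * c) w)) (e (T_mem (p * c) w))
      rw [← a_mul, ← mul_assoc, s.sq p hp.1, one_mul] at this
      convert this using 1
      rw [Tm_apply]
      linear_combination (norm := (apply ch2; match_scalars <;> decide)))
    have := m.dim_Fx c
    omega
  obtain ⟨d2, hE⟩ := m.inter s t1 hc hr (m.le hA) hr1 rc d1 dr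
  have r1 : r ≠ 1 := by
    rintro rfl
    rw [show Fx a (1 : H) = ⊤ from eq_top_iff.2 fun v _ => mem_Fx.2 (a_one v), finrank_top,
      m.dim] at dr
    omega
  have ht : t ∈ Fx a c ⊓ Fx a r := ⟨s.fix c hc, s.fix r hr⟩
  obtain ⟨p, hp, hp1⟩ : ∃ p ∈ R, p ∉ A1 := by
    by_contra! h
    rcases s.move _ (hE ((m.inv_ρ (m.le hA)).inf (m.inv_ρ hr1) t ht))
      (fun x hx => m.inv_ρ (h x hx) t (s.fix x hx)) with e | e
    · exact s.t0 (by simpa using e)
    · exact s.t0 (m.rho_disj (t1.1 ▸ trivial) (mem_Fx.2 e))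
  have key : ∀ {c' c'' y' y'' g : H}, Flag A A1 c c' c'' y' y'' g → r * c' = c' * r → c' ∈ R :=
    fun F e => F.h1.y1 ▸ s.normR _ ((m.fixL t1 F hr1 (comm_of_sq s.sq hr hc) e d2.le).2.2 ht) c hc
  obtain ⟨c', c'', y', y'', g, F, h⟩ : ∃ c' c'' y' y'' g, Flag A A1 c c' c'' y' y'' g ∧ c' ∈ R := by
    obtain ⟨c', c'', y', y'', g, F⟩ := m.flag c hA (s.sq c hc) h1
    rcases F.oddc r hr1 (s.sq r hr) (comm_of_sq s.sq hr hc) with e | e
    exacts [⟨_, _, _, _, _, F, key F e⟩, ⟨_, _, _, _, _, F.symm, key F.symm e⟩]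
  refine ⟨fun x hx hx1 => ?_, c, c', c'', y', y'', g, F, hc, h⟩
  by_contra hn
  have := three_le_card (P := R ⊓ A) ⟨hc, hA⟩ ⟨h, F.h1.mem⟩ h1 (F.h1.ne h1) (F.h1.ne' h1)
  have := two_mul_card_le (inf_le_inf_left R m.le) (x := x) ⟨hx, hx1⟩ fun h => hn h.2
  have := two_mul_card_le (inf_le_left : R ⊓ A1 ≤ R) hp fun h => hp1 h.2
  omega

theorem final : ∃ g, a g t ∈ E ∧ a g t ≠ t ∧ (∀ b ∈ R, g⁻¹ * b * g ∈ R → b ∈ A1 → b = 1) ∧
    dim (E ⊓ E.map (a g : V →ₗ[ZMod 2] V) : Submodule (ZMod 2) V) ≤ 2 := by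
  obtain ⟨hA, c, c', c'', y', y, g, F, hc, hc'⟩ := m.exists_flag s t1
  have d1 := m.dim_A t1 F.mem F.sq F.ne
  obtain ⟨d2, hE⟩ := m.inter s t1 hc hc' (m.le F.mem) (m.le F.h1.mem) (F.h1.ne' F.ne) d1
    (m.dim_A t1 F.h1.mem F.h1.sq (F.h1.ne F.ne))
  set L := Fx a c ⊓ Fx a c' with hL
  obtain ⟨-, k1, k2⟩ := m.fixL t1 F (m.le F.h1.mem) F.h1.comm.symm rfl d2.le
  have ht : t ∈ L := ⟨s.fix c hc, s.fix c' hc'⟩
  have ty : t ∉ Fx a y := fun h =>
    s.t0 (t1.2 _ (mul_mem F.h1.ymem F.h2.ymem) F.five F.five' t (Fx_mul (k2 ht) h))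
  have hU : Fx a c ≤ Fx a c'' := by
    obtain ⟨k, hk⟩ := m.even_I t1 ((m.inv_ρ (m.le F.mem)).inf (m.inv_ρ (m.le F.h2.mem)))
    have := Submodule.finrank_mono (inf_le_left : Fx a c ⊓ Fx a c'' ≤ _)
    refine inf_eq_left.1 (eq_of_dim inf_le_left ?_)
    by_contra hlt
    exact ty ((m.fixL t1 F.symm (m.le F.h2.mem) F.h2.comm.symm rfl (by omega)).2.2 ⟨ht.1, k1 ht⟩)
  have Uy : Inv a y (Fx a c) := fun u hu => by
    simpa [← F.h2.y3' F.sq, mul_assoc] using Fx_conj y (Fx_mul hu (hU hu))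
  have Lρ : Inv a ρ L := (m.inv_ρ (m.le F.mem)).inf (m.inv_ρ (m.le F.h1.mem))
  have cy := m.comm y (m.le F.h2.ymem)
  have dL : dim (L.map (a y : V →ₗ[ZMod 2] V)) = 2 := by rw [LinearEquiv.finrank_map_eq, d2]
  have LU : L.map (a y : V →ₗ[ZMod 2] V) ≤ Fx a c := by
    rintro _ ⟨l, hl, rfl⟩; exact Uy l hl.1
  have disj : ∀ v ∈ L, v ∈ L.map (a y : V →ₗ[ZMod 2] V) → v = 0 := by
    intro v h1 h2
    by_contra v0
    have := m.two_le_I t1 (Lρ.inf (S' := L.map (a y : V →ₗ[ZMod 2] V)) (by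
      rintro _ ⟨l, hl, rfl⟩; exact ⟨a ρ l, Lρ l hl, a_comm cy l⟩)) ⟨h1, h2⟩ v0
    have e := inf_eq_right.1 (eq_of_dim inf_le_right (dL.le.trans this))
    exact ty (F.h2.fix inf_le_right (fun l hl => e ⟨l, hl, rfl⟩) ht)
  have sup : L ⊔ L.map (a y : V →ₗ[ZMod 2] V) = Fx a c := eq_of_dim (sup_le inf_le_left LU) (by
    have := dim_disj disj le_sup_left le_sup_right; omega)
  obtain ⟨_, ⟨hs, l, hl, rfl⟩, l0⟩ := exists_ne_zero
    (S := (E ⊓ Fx a c) ⊓ L.map (a y : V →ₗ[ZMod 2] V)) (by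
    have := Submodule.finrank_sup_add_finrank_inf_eq (E ⊓ Fx a c) (L.map (a y : V →ₗ[ZMod 2] V))
    have := Submodule.finrank_mono (sup_le (inf_le_right : E ⊓ Fx a c ≤ _) LU)
    have := m.three_le s hc d1.le
    omega)
  obtain ⟨k, hk, kL, rfl⟩ : ∃ k, (∀ h ∈ A1, h * k = k * h) ∧ Inv a k L ∧ a k t = l := by
    have : Submodule.span (ZMod 2) {t, a ρ t} = L := eq_of_dim (Submodule.span_le.2 (by
      rintro _ (rfl | rfl); exacts [ht, Lρ t ht])) (d2.le.trans (two_le_dim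
        (Submodule.subset_span (by simp)) (Submodule.subset_span (s := {t, a ρ t}) (Or.inr rfl)) s.t0
        (by simpa using s.t0) fun e => s.t0 (m.rho_disj (t1.1 ▸ trivial) (mem_Fx.2 e))))
    obtain ⟨i, j, e⟩ := Submodule.mem_span_pair.1 (this ▸ hl : l ∈ Submodule.span (ZMod 2) {t, a ρ t})
    rcases zmod2_cases i with rfl | rfl <;> rcases zmod2_cases j with rfl | rfl <;>
      simp only [zero_smul, one_smul, add_zero, zero_add] at e
    · exact absurd (by simp [← e]) l0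
    · exact ⟨ρ, m.comm, Lρ, e⟩
    · exact ⟨1, by simp, fun v hv => by rwa [a_one], (a_one t).trans e⟩
    · exact ⟨ρ * ρ, fun h hh => by rw [← mul_assoc, m.comm h hh, mul_assoc, m.comm h hh, mul_assoc],
        fun v hv => by rw [a_mul]; exact Lρ _ (Lρ v hv),
        by rw [a_mul, m.rho_rel (t1.1 ▸ trivial), add_comm, e]⟩
  have nL : a (y * k) t ∉ L := fun h => l0 (disj _ (a_mul y k t ▸ h) ⟨_, hl, rfl⟩)
  refine ⟨y * k, by rw [a_mul]; exact hs.1, fun e => nL (e.symm ▸ ht), fun b hb h hb1 => ?_, ?_⟩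
  · have hf : a (y * k) t ∈ Fx a b := by simpa [mul_assoc] using Fx_conj (y * k) (s.fix _ h)
    have hs2 : a (y * k) t ∈ Fx a c := by rw [a_mul]; exact hs.2
    rcases F.cent4 (hA b hb hb1) (comm_of_sq s.sq hb hc) (comm_of_sq s.sq hb hc') with
      e | rfl | rfl | rfl
    · exact e
    · rw [show (y * k)⁻¹ * b * (y * k) = k⁻¹ * (y⁻¹ * b * y * k) by group, F.h2.y3' F.sq,
        hk _ (m.le (mul_mem F.mem F.h2.mem)), inv_mul_cancel_left] at h
      exact absurd (comm_of_sq s.sq ((R.mul_mem_cancel_left hc).1 h) hc') F.ncomm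
    · exact absurd ⟨hs2, hf⟩ nL
    · exact absurd ⟨hs2, by simpa using Fx_mul (Fx_inv hs2) hf⟩ nL
  have e1 : L.map (a (y * k) : V →ₗ[ZMod 2] V) = L.map (a y : V →ₗ[ZMod 2] V) := eq_of_dim (by
    rintro _ ⟨v, hv, rfl⟩; exact ⟨_, kL v hv, (a_mul y k v).symm⟩)
    (by rw [LinearEquiv.finrank_map_eq, LinearEquiv.finrank_map_eq])
  have e2 : (Fx a c).map (a (y * k) : V →ₗ[ZMod 2] V) = Fx a c := eq_of_dim (by
    rintro _ ⟨v, hv, rfl⟩
    exact (a_mul y k v).symm ▸ Uy _ (inv_Fx (hk c (m.le F.mem)).symm v hv))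
    (by rw [LinearEquiv.finrank_map_eq])
  have nE : ¬ E ≤ Fx a c := fun h => F.ne (m.faith_E s t1 hc h)
  have e3 : E ⊓ E.map (a (y * k) : V →ₗ[ZMod 2] V) ≤ E ⊓ Fx a c := fun e he => ⟨he.1, by
    rw [← m.pp_Im, m.Im_eq F.sq d1.le, ← sup, ← e1]
    intro w hw
    obtain ⟨u, hu, _, ⟨u', hu', rfl⟩, rfl⟩ := Submodule.mem_sup.1 hw
    obtain ⟨e', he', rfl⟩ := he.2
    rw [polar_add_left, s.iso he.1 u (hE hu), zero_add]
    exact (m.b_act _ _ _).trans (s.iso he' u' (hE hu'))⟩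
  by_contra hlt
  obtain ⟨v, hv, hv'⟩ := SetLike.not_le_iff_exists.1 nE
  have d3 := dim_lt (inf_le_left : E ⊓ Fx a c ≤ E) hv fun h => hv' h.2
  have d4 := m.dim_E s t1
  have e4 : L ≤ E.map (a (y * k) : V →ₗ[ZMod 2] V) :=
    (le_inf hE inf_le_left).trans ((eq_of_dim e3 (by omega)).ge.trans inf_le_right)
  have e5 : Fx a c ≤ E := by
    rw [← Submodule.map_le_map_iff_of_injective (f := (a (y * k) : V →ₗ[ZMod 2] V))
      (a (y * k)).injective, e2, ← sup, ← e1]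
    exact sup_le e4 (Submodule.map_mono hE)
  exact nE (eq_of_dim e5 (by omega)).ge

end Md

end CfsgLib.Small9
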