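import Mathlib
import Cfsg.Agent.Lib.W4.WC
import Cfsg.Agent.Lib.Small9.RE

/-!
The data attached to `C(z) = 2^(1+8).H`; `z` is weakly closed in `Q`.
-/

set_option autoImplicit false
set_option linter.unusedSectionVars false

namespace CfsgLib.Small9

open Subgroup Module CfsgLib.ExtraTwo CfsgLib.LargeExtra CfsgLib.W4
open QuadraticMap (polar polarBilin polar_add_left polar_add_right polar_comm)

variable {G : Type*} [Group G] [Finite G] {H : Type*} [Group H] [Finite H] {V : Type*}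
  [AddCommGroup V] [Module (ZMod 2) V] [Finite V]

local notation "dim" => finrank (ZMod 2)
local notation "CC" z:max => centralizer ({z} : Set _)

/-- `C(z) / Q ≅ H` acts on `Q / ⟨z⟩ = V` via `a` -/
structure Dt (a : H →* (V ≃ₗ[ZMod 2] V)) (q : QuadraticForm (ZMod 2) V) (Q : Subgroup G) (z : G)
    (π : G → V) (f : CC z →* H) : Prop where
  pre : Pre Q z
  co : Coord Q z q π
  card : Nat.card Q = 2 ^ 9
  surj : Function.Surjective f
  ker : ∀ g, f g = 1 ↔ (g : G) ∈ Q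
  act : ∀ g, ∀ x ∈ Q, a (f g) (π x) = π (g * x * (g : G)⁻¹)

/-- the image of `P ⊓ C(z)` -/
abbrev bar {z : G} (f : CC z →* H) (P : Subgroup G) : Subgroup H := (P.subgroupOf (CC z)).map f

variable {a : H →* (V ≃ₗ[ZMod 2] V)} {q : QuadraticForm (ZMod 2) V} {Q Q1 : Subgroup G} {z t : G}
  {π : G → V} {f : CC z →* H}

namespace Dt

theorem conj (d : Dt a q Q z π f) (g : G) :
    ∃ π1 f1, Dt a q (Q.map (MulAut.conj g).toMonoidHom) (g * z * g⁻¹) π1 f1 := by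
  let φ : CC (g * z * g⁻¹) →* CC z := ((MulAut.conj g⁻¹).toMonoidHom.comp (Subgroup.subtype _)).codRestrict _
    fun y => mem_cent.2 (by
      have := congrArg (fun w => g⁻¹ * w * g) (mem_cent.1 y.2)
      simpa [mul_assoc] using this)
  have hφ : ∀ y, (φ y : G) = g⁻¹ * y * g := fun y => by simp [φ]
  refine ⟨fun x => π (g⁻¹ * x * g), f.comp φ, d.pre.conj g, ⟨d.co.es.map_conj g, fun x hx y hy => ?_,
    fun v => ?_, fun x hx => ?_, fun x hx => ?_⟩, (card_map_conj Q g).trans d.card, fun h => ?_,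
    fun y => ?_, fun y x hx => ?_⟩
  · rw [← d.co.map_mul _ (mem_map_conj.1 hx) _ (mem_map_conj.1 hy)]; congr 1; group
  · obtain ⟨x, hx, rfl⟩ := d.co.surj v
    exact ⟨g * x * g⁻¹, mem_map_conj.2 (by simpa [mul_assoc] using hx), by simp [mul_assoc]⟩
  · rw [d.co.ker _ (mem_map_conj.1 hx)]
    refine or_congr (by simpa using conj_eq_one_iff (a := g⁻¹) (b := x)) ⟨fun e => ?_, fun e => ?_⟩
    · rw [← e]; group
    · rw [e]; group
  · rw [d.co.sq _ (mem_map_conj.1 hx), show g⁻¹ * x * g * (g⁻¹ * x * g) = g⁻¹ * (x * x) * g⁻¹⁻¹ by group,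
      conj_eq_one_iff]
  · obtain ⟨x, rfl⟩ := d.surj h
    refine ⟨⟨g * x * g⁻¹, mem_cent.2 (by rw [conj_mul, conj_mul, mem_cent.1 x.2])⟩, congrArg f ?_⟩
    exact Subtype.ext (by rw [hφ]; simp [mul_assoc])
  · rw [MonoidHom.comp_apply, d.ker, hφ, mem_map_conj]
  · rw [MonoidHom.comp_apply, d.act _ _ (mem_map_conj.1 hx), hφ]; congr 1; group

theorem T_eq (d : Dt a q Q z π f) (g : CC z) {x : G} (hx : x ∈ Q) :
    a (f g) (π x) + π x = π (g * x * (g : G)⁻¹ * x⁻¹) := by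
  rw [d.act g x hx, d.co.map_mul _ (d.pre.norm _ (mem_cent.1 g.2) x hx) _ (inv_mem hx), d.co.map_inv hx]

theorem fix_iff (d : Dt a q Q z π f) (g : CC z) {x : G} (hx : x ∈ Q) :
    π x ∈ Fx a (f g) ↔ g * x * (g : G)⁻¹ = x ∨ g * x * (g : G)⁻¹ = x * z := by
  rw [mem_Fx, d.act g x hx, eq_comm, d.co.eq_iff hx (d.pre.norm _ (mem_cent.1 g.2) x hx)]

theorem fix_of_comm (d : Dt a q Q z π f) (g : CC z) {x : G} (hx : x ∈ Q) (h : g * x = x * g) :
    π x ∈ Fx a (f g) := (d.fix_iff g hx).2 (Or.inl (conj_eq_of_comm h))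

theorem re (d : Dt a q Q z π f) (p : Pair Q Q1 z t) (h : Nat.card Q1 = 2 ^ 9) :
    RE a q (bar f Q1) (d.co.img (Q ⊓ Q1)) (π t) where
  sq := fun _ hr => p.map_mul_self f d.ker hr
  card := by
    have := p.card_E_mul_card_map f d.ker
    rw [d.co.card_img inf_le_left ⟨d.pre.es.mem, p.zQ1⟩, card_eq, h] at this
    linarith
  sing := by
    rintro _ ⟨x, hx, hx', rfl⟩
    exact (d.co.sq x hx').2 (p.E_sq hx)
  t0 := fun e => ((d.co.ker t p.tQ).1 e).elim p.t_ne_one p.ne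
  tE := ⟨t, ⟨p.tQ, p.h1.es.mem⟩, p.tQ, rfl⟩
  perp := by
    rintro _ ⟨x, hx, rfl⟩ v hv
    obtain ⟨u, hu, rfl⟩ := d.co.surj v
    have := p.commutator_mem_E hu ((d.co.polar_iff p.tQ hu).1 hv).symm hx (mem_cent.1 x.2)
    exact ⟨_, this, this.1, (d.T_eq x hu).symm⟩
  comm := by
    rintro _ ⟨x, hx, rfl⟩ _ ⟨u, hu, hu', rfl⟩
    rw [d.act x u hu']
    rcases p.h1.es.conj hu.2 hx with e | e <;> erw [e]
    · exact Or.inl (add_self_zmod2 _)
    · exact Or.inr (by rw [d.co.map_mul _ hu' _ p.tQ, add_right_comm, add_self_zmod2, zero_add])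
  move := by
    rintro _ ⟨u, hu, hu', rfl⟩ hf
    by_contra! hn
    obtain ⟨r, hr, hrz, e⟩ := p.exists_conj_E hu.2 (by
      rintro (rfl | rfl | rfl | rfl)
      exacts [hn.1 d.co.map_one, hn.2 rfl, hn.1 d.co.map_z,
        hn.2 (by rw [← p.comm, d.co.map_mul_z p.tQ])])
    have := mem_Fx.1 (hf _ ⟨⟨r, mem_cent.2 hrz⟩, hr, rfl⟩)
    rw [d.act _ u hu', e, d.co.map_mul _ hu' _ p.tQ, add_eq_left] at this
    exact ((d.co.ker t p.tQ).1 this).elim p.t_ne_one p.ne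
  fix := by
    rintro _ ⟨x, hx, rfl⟩
    exact d.fix_of_comm x p.tQ (p.h1.es.comm_z _ hx)
  normR := fun h ht r hr => by
    obtain ⟨g, rfl⟩ := d.surj h
    exact p.map_conj_mem f d.ker g ((d.fix_iff g p.tQ).1 ht) hr
  normE := by
    rintro h ht _ ⟨u, hu, hu', rfl⟩
    obtain ⟨g, rfl⟩ := d.surj h
    obtain ⟨b, hb, h1, h2⟩ := p.exists_conj_mem (mem_cent.1 g.2) ((d.fix_iff g p.tQ).1 ht)
    have : f g = f ⟨b * g, mem_cent.2 h1⟩ := by
      rw [← one_mul (f g), ← (d.ker ⟨b, d.pre.le_cent hb⟩).2 hb, ← map_mul]; rfl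
    rw [this, d.act _ u hu']
    exact ⟨_, ⟨d.pre.norm _ h1 u hu', p.h1.norm _ h2 u hu.2⟩, d.pre.norm _ h1 u hu', rfl⟩

variable {A A1 : Subgroup H} {ρ : H} (m : Md A A1 ρ q a)
include m

theorem wc (d : Dt a q Q z π f) {x : G} (hx : x ∈ Q) (h : IsConj z x) : x = z := by
  obtain ⟨g, rfl⟩ := isConj_iff.1 h
  by_contra hne
  have p := d.pre.pair (by rw [d.card]; norm_num) hx hne
  obtain ⟨π1, f1, d1⟩ := d.conj g
  generalize g * z * g⁻¹ = t at *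
  generalize Q.map (MulAut.conj g).toMonoidHom = Q1 at *
  have s := d.re p d1.card
  rcases m.dichotomy with t1 | t2
  swap
  · exact m.RE_II t2 s
  obtain ⟨h, h1, h2, h3, h4⟩ := m.final s t1
  obtain ⟨k, rfl⟩ := d.surj h
  have kz := mem_cent.1 k.2
  rw [d.act k t p.tQ] at h1 h2
  have h5 : k * t * (k : G)⁻¹ ∈ Q ⊓ Q1 := d.co.sub_img inf_le_left ⟨d.pre.es.mem, p.zQ1⟩ ▸
    d.co.mem_sub.2 ⟨d.pre.norm _ kz t p.tQ, h1⟩
  have p1 := d1.pre.pair (by rw [d1.card]; norm_num) h5.2 fun e => h2 (by rw [e])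
  have c2 := (card_map_conj Q1 k).trans d1.card
  set Q2 := Q1.map (MulAut.conj (k : G)).toMonoidHom
  have z2 : z ∈ Q2 := mem_map_conj.2 (by rw [mul_assoc, ← kz, inv_mul_cancel_left]; exact p.zQ1)
  have c3 : Nat.card (Q1 ⊓ Q2 : Subgroup G) = 32 := by
    rw [d1.co.card_img inf_le_left ⟨d1.pre.es.mem, p1.zQ1⟩, card_eq, m.dim_E (d1.re p1 c2) t1]; rfl
  have c4 := card_inf_mul_card_map (Q1 := Q1 ⊓ Q2) d.pre.le_cent f d.ker
  rw [inf_eq_left.2 (show Q1 ⊓ Q2 ≤ CC z from fun x hx => mem_cent.2 (p1.E_comm hx ⟨p.zQ1, z2⟩)),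
    c3, d.co.card_img (P := Q ⊓ (Q1 ⊓ Q2)) inf_le_left ⟨d.pre.es.mem, p.zQ1, z2⟩, card_eq] at c4
  have c5 := Nat.pow_le_pow_right (show 0 < 2 by norm_num) ((Submodule.finrank_mono
    (show d.co.img (Q ⊓ (Q1 ⊓ Q2)) ≤ _ from by
      rintro _ ⟨x, hx, hx', rfl⟩
      have h6 : (k : G)⁻¹ * x * k ∈ Q := by
        simpa using d.pre.norm _ (mem_cent.1 (inv_mem k.2)) x hx'
      refine ⟨⟨x, ⟨hx', hx.2.1⟩, hx', rfl⟩, _, ⟨_, ⟨h6, mem_map_conj.1 hx.2.2⟩, h6, rfl⟩, ?_⟩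
      rw [LinearEquiv.coe_coe, d.act _ _ h6]; congr 1; group)).trans h4)
  have hle : bar f (Q1 ⊓ Q2) ≤ bar f Q1 := map_mono (comap_mono inf_le_left)
  have c6 := m.idx1 (bar f (Q1 ⊓ Q2)) ((isPGroup_of_sq s.sq).to_le hle)
  rw [show bar f (Q1 ⊓ Q2) ⊓ A1 = ⊥ from eq_bot_iff.2 fun b hb => h3 b (hle hb.1) (by
    obtain ⟨⟨x, hx, rfl⟩, -⟩ := hb
    exact ⟨k⁻¹ * x * k, mem_map_conj (H := Q1) |>.1 hx.2, by simp⟩) hb.2, card_bot] at c6
  unfold bar at c6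
  nlinarith

end Dt

end CfsgLib.Small9
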