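import Mathlib
import Cfsg.Agent.Lib.Small9.CaseA

/-!
Commuting conjugates `z`, `s` with `s ∉ Q`: general facts and modules of type II.
-/

set_option autoImplicit false
set_option linter.unusedSectionVars false

namespace CfsgLib.Small9

open Subgroup Module CfsgLib.ExtraTwo CfsgLib.LargeExtra CfsgLib.W4
open QuadraticMap (polar polarBilin polar_add_left polar_add_right polar_comm)

variable {G : Type*} [Group G] [Finite G] {H : Type*} [Group H] [Finite H] {V : Type*}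
  [AddCommGroup V] [Module (ZMod 2) V] [Finite V]

local notation "dim" => finrank (ZMod 2)
local notation "CC" z:max => centralizer ({z} : Set _)

variable {a : H →* (V ≃ₗ[ZMod 2] V)} {q : QuadraticForm (ZMod 2) V} {A A1 : Subgroup H} {ρ : H}

namespace Md
variable (m : Md A A1 ρ q a)
include m

theorem dim_sing {h : H} (hh : h * h = 1) :
    ∃ S ≤ Im a h, (∀ v ∈ S, q v = 0) ∧ (S = Im a h ∨ dim (Im a h) ≤ dim S + 1) := by
  by_cases e : ∀ v ∈ Im a h, q v = 0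
  · exact ⟨_, le_rfl, e, Or.inl rfl⟩
  push Not at e
  obtain ⟨u, hu, qu⟩ := e
  let S : Submodule (ZMod 2) V :=
    { carrier := {v | v ∈ Im a h ∧ q v = 0}
      zero_mem' := ⟨zero_mem _, map_zero q⟩
      add_mem' := fun h h' => ⟨add_mem h.1 h'.1, by rw [m.q_Im hh h.1 h'.1, h.2, h'.2, add_zero]⟩
      smul_mem' := fun r x h => ⟨Submodule.smul_mem _ r h.1, by
        rw [QuadraticMap.map_smul, h.2, smul_zero]⟩ }
  refine ⟨S, fun _ h => h.1, fun _ h => h.2, Or.inr ((Submodule.finrank_mono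
    (show Im a h ≤ S ⊔ Submodule.span _ {u} from fun v hv => ?_)).trans ((dim_sup_le _ _).trans
      (Nat.add_le_add_left ((finrank_span_le_card _).trans (by simp)) _)))⟩
  by_cases e : q v = 0
  · exact Submodule.mem_sup_left (show v ∈ S from ⟨hv, e⟩)
  · exact Submodule.mem_sup.2 ⟨v + u, ⟨add_mem hv hu, by
      rw [m.q_Im hh hv hu, zmod2_ne_zero.1 e, zmod2_ne_zero.1 qu]; rfl⟩, u,
      Submodule.mem_span_singleton_self u, by rw [add_assoc, add_self_zmod2, add_zero]⟩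

theorem exists_V4 {Y : Subgroup H} (hY : ∀ y ∈ Y, y * y = 1) {c : H} (hc : c ∈ Y) (hA : c ∈ A)
    (h1 : c ≠ 1) (h : 3 ≤ Nat.card (Y ⊓ A : Subgroup H)) :
    ∃ c' c'' y' y'' g, Flag A A1 c c' c'' y' y'' g ∧ c' ∈ Y := by
  obtain ⟨v, hv, h⟩ := exists_not_mem_list (P := Y ⊓ A) [1, c] h
  simp only [List.mem_cons, List.not_mem_nil, or_false, not_or] at h
  have k : ∀ {c' c'' y' y'' g : H}, Flag A A1 c c' c'' y' y'' g → v * c' = c' * v → c' ∈ Y := by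
    intro c' c'' y' y'' g F e
    rcases F.cent4 hv.2 (comm_of_sq hY hv.1 hc) e with e | e | e | e
    exacts [absurd e h.1, absurd e h.2, e ▸ hv.1, (Y.mul_mem_cancel_left hc).1 (e ▸ hv.1)]
  obtain ⟨c', c'', y', y'', g, F⟩ := m.flag c hA (hY c hc) h1
  rcases F.oddc v (m.le hv.2) (hY v hv.1) (comm_of_sq hY hv.1 hc) with e | e
  exacts [⟨_, _, _, _, _, F, k F e⟩, ⟨_, _, _, _, _, F.symm, k F.symm e⟩]

variable (t1 : TI a A ρ)
include t1

theorem fix_syl {Y : Subgroup H} (hY : IsPGroup 2 Y) (h : 32 ≤ Nat.card Y)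
    {S : Submodule (ZMod 2) V} (hS : ∀ y ∈ Y, S ≤ Fx a y) : dim S ≤ 1 := by
  have c1 := m.idx1 Y hY
  have c2 := m.idx2 Y
  have c3 := m.card_inf_le hY
  obtain ⟨c, hc, h1, h2, h3⟩ := exists_central_inv (hY.to_inf_left (K := A)) (by omega)
  obtain ⟨c', c'', y', y'', g, F⟩ := m.flag c hc.2 h1 h2
  have k := fun x => mem_of_length_le (P := Y ⊓ A) (x := x)
    [1, c, c', c * c', c'', c * c'', c' * c'', c'' * c']
    (fun x hx => by simpa using F.cent x hx.2 (h3 x hx)) (by simp only [List.length_cons, List.length_nil]; omega)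
  have d1 := m.dim_A t1 F.h1.mem F.h1.sq (F.h1.ne h2)
  have d2 := m.dim_A t1 F.h2.mem F.h2.sq (F.h2.ne h2)
  have hρ := (m.inv_ρ (m.le F.h1.mem)).inf (m.inv_ρ (m.le F.h2.mem))
  have d3 : dim (Fx a c' ⊓ Fx a c'' : Submodule (ZMod 2) V) ≤ 2 := by
    obtain ⟨k, hk⟩ := m.even_I t1 hρ
    have := Submodule.finrank_mono (inf_le_left : Fx a c' ⊓ Fx a c'' ≤ _)
    by_contra hlt
    have e : Fx a c' = Fx a c'' := (eq_of_dim inf_le_left (by omega)).symm.trans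
      (eq_of_dim inf_le_right (by omega))
    exact h2 (by rw [← F.root, ← _root_.sq, m.quad F.h1.sq F.h2.sq (e ▸ Im_le_Fx F.h1.sq)
      (e ▸ Im_le_Fx F.h2.sq)])
  obtain ⟨r, hr, hr'⟩ := m.exists_not_mem (Y := Y) (B := A1) (by omega)
  have := m.semi_I t1 (m.inv_of_not_mem hY hr hr') hρ
  have := Submodule.finrank_mono (le_inf (le_inf (hS _ (k c' (by simp)).1) (hS _ (k c'' (by simp)).1))
    (hS r hr))
  omega

theorem odd_I {c c' c'' y' y'' g x : H} (F : Flag A A1 c c' c'' y' y'' g) (hx : x ∈ A1)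
    (hA : x ∉ A) (h1 : x * c = c * x) (h2 : x * c' = c' * x) (e1 : Fx a x ≤ Fx a c)
    (e2 : Fx a x ≤ Fx a c') (d1 : dim (Fx a x) = 4) (d2 : dim (Fx a (c * x)) = 4) : False := by
  obtain ⟨y0, h0⟩ := F.h1.odd
  have k : ∀ w ∈ A1, w ∉ A → w * c = c * w → w * c' = c' * w → Fx a x = Fx a w → w = y0 := by
    intro w hw hA h1 h2 e
    refine (h0 w hw hA h1 h2).resolve_right ?_
    rintro ⟨h, hh, hc, u, hu, hne⟩
    have u1 : u ∈ A ∧ u * u = 1 ∧ u ≠ 1 := by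
      rcases hu with rfl | rfl | rfl
      exacts [⟨F.mem, F.sq, F.ne⟩, ⟨F.h1.mem, F.h1.sq, F.h1.ne F.ne⟩,
        ⟨mul_mem F.mem F.h1.mem, by rw [mul_assoc, ← mul_assoc c', ← F.h1.comm, mul_assoc, F.h1.sq,
          mul_one, F.sq], fun e => F.h1.ne' F.ne (by
            rw [← mul_one c, ← F.h1.sq, ← mul_assoc, e, one_mul])⟩]
    have u2 : h * u * h⁻¹ * (h * u * h⁻¹) = 1 := by rw [conj_mul, u1.2.1]; simp
    have f1 : Fx a x ≤ Fx a u := fun v hv => V4.fix (Or.inr hu) (e1 hv) (e2 hv)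
    have f2 : Fx a x ≤ Fx a (h * u * h⁻¹) := fun v hv => by
      rw [← a_inv' (a := a) h v]
      exact Fx_conj h (f1 (e ▸ inv_Fx (Commute.inv_left hc) v (e ▸ hv)))
    have e' : Fx a u = Fx a (h * u * h⁻¹) :=
      (eq_of_dim f1 (by rw [m.dim_A t1 u1.1 u1.2.1 u1.2.2, d1])).symm.trans (eq_of_dim f2 (by
        rw [m.dim_A t1 (m.norm h u u1.1) u2 (by simpa using u1.2.2), d1]))
    exact hne (m.quad u1.2.1 u2 (e' ▸ Im_le_Fx u1.2.1) (e' ▸ Im_le_Fx u2))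
  have := k (c * x) (mul_mem (m.le F.mem) hx) (fun e => hA ((A.mul_mem_cancel_left F.mem).1 e))
    (by rw [mul_assoc, h1]) (by rw [mul_assoc, h2, ← mul_assoc, F.h1.comm, mul_assoc])
    (eq_of_dim (fun v hv => Fx_mul (e1 hv) hv) (by omega))
  exact F.ne (by simpa [← k x hx hA h1 h2 rfl] using this)

end Md

/-- a pair of commuting conjugates with their data -/
structure PB (a : H →* (V ≃ₗ[ZMod 2] V)) (q : QuadraticForm (ZMod 2) V) (Q Q1 : Subgroup G)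
    (z s : G) (π π1 : G → V) (f : CC z →* H) (f1 : CC s →* H) : Prop where
  d0 : Dt a q Q z π f
  d1 : Dt a q Q1 s π1 f1
  p : WP Q Q1 z s

variable {Q Q1 : Subgroup G} {z s : G} {π π1 : G → V} {f : CC z →* H} {f1 : CC s →* H}

theorem Dt.exists_PB (m : Md A A1 ρ q a) (d : Dt a q Q z π f) (s : CC z) (h : IsConj z s)
    (hne : (s : G) ≠ z) : ∃ Q1 π1 f1, PB a q Q Q1 z s π π1 f f1 := by
  obtain ⟨s, hs⟩ := s
  obtain ⟨g, rfl⟩ := isConj_iff.1 h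
  obtain ⟨π1, f1, d1⟩ := d.conj g
  exact ⟨_, π1, f1, d, d1, wp_of d.pre (fun _ => d.wc m) (mem_cent.1 hs) hne⟩

namespace PB
variable (b : PB a q Q Q1 z s π π1 f f1)
include b

theorem symm : PB a q Q1 Q s z π1 π f1 f := ⟨b.d1, b.d0, b.p.symm⟩

/-- the image of `s` -/
def sb : H := f ⟨s, mem_cent.2 b.p.comm⟩

theorem hσ : ∀ x ∈ Q, (a b.sb : V →ₗ[ZMod 2] V) (π x) = π (s * x * s⁻¹) :=
  b.d0.act ⟨s, mem_cent.2 b.p.comm⟩

theorem sq : b.sb * b.sb = 1 := by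
  rw [sb, ← map_mul, b.d0.ker]; exact (b.p.ss ▸ one_mem Q : s * s ∈ Q)

theorem ne : b.sb ≠ 1 := fun e => b.p.s_not_mem ((b.d0.ker _).1 e)

theorem sb_mem : b.sb ∈ bar f Q1 := ⟨_, b.p.h1.es.mem, rfl⟩

theorem π_nn {x : G} (hx : x ∈ Q) : π (nn s x) = a b.sb (π x) + π x := b.p.π_nn b.d0.co b.hσ hx

theorem exists_nn {u : G} (hu : u ∈ Q) (h : π u ∈ Im a b.sb) :
    ∃ x ∈ Q, u = nn s x ∨ u = nn s x * z := by
  obtain ⟨w, e⟩ := mem_Im.1 h
  obtain ⟨x, hx, rfl⟩ := b.d0.co.surj w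
  exact ⟨x, hx, (b.d0.co.eq_iff (b.p.nn_mem hx) hu).1 ((b.π_nn hx).trans e)⟩

theorem inv_of_Im {u : G} (hu : u ∈ Q) (h : π u ∈ Im a b.sb) : s * u * s⁻¹ = u⁻¹ := by
  obtain ⟨x, hx, rfl | rfl⟩ := b.exists_nn hu h
  · exact b.p.conj_nn_self x
  · rw [← conj_mul, b.p.conj_nn_self, conj_eq_of_comm b.p.comm, mul_inv_rev, b.d0.pre.es.inv_eq,
      b.d0.pre.es.comm_z _ (inv_mem (b.p.nn_mem hx))]

theorem comm_of_sing {u : G} (hu : u ∈ Q) (h : π u ∈ Im a b.sb) (h0 : q (π u) = 0) :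
    u * s = s * u :=
  (comm_of_conj_eq ((b.inv_of_Im hu h).trans
    (inv_eq_of_mul_eq_one_right ((b.d0.co.sq u hu).1 h0)))).symm

theorem card_A0 (h : ¬ Phi Q z s) :
    Nat.card (Q1 ⊓ Q : Subgroup G) * Nat.card (bar f1 Q) = 2 * 2 ^ dim (Fx a b.sb) := by
  rw [b.p.symm.card_B f1 b.d1.ker, b.p.card_A_zero h b.d0.co b.hσ, card_eq]; rfl

theorem card_A1 (h : Phi Q z s) :
    Nat.card (Q1 ⊓ Q : Subgroup G) * Nat.card (bar f1 Q) = 2 ^ dim (Fx a b.sb) := by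
  rw [b.p.symm.card_B f1 b.d1.ker, b.p.card_A_one h b.d0.co b.hσ, card_eq]; rfl

theorem card_D : Nat.card (Q ⊓ Q1 : Subgroup G) = 2 ^ dim (b.d0.co.img (Q ⊓ Q1)) := by
  rw [b.d0.co.card_img_of_not_mem inf_le_left fun h => b.p.z_not_mem h.2, card_eq]

theorem pgrp : IsPGroup 2 (bar f Q1) :=
  (b.p.h1.es.isPGroup.comap_of_injective _ (CC z).subtype_injective).map f

theorem fix_D : ∀ y ∈ bar f Q1, b.d0.co.img (Q ⊓ Q1) ≤ Fx a y := by
  rintro _ ⟨y, hy, rfl⟩ _ ⟨d, hd, hd', rfl⟩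
  exact b.d0.fix_of_comm y hd' (b.p.D_comm_B hd' hd.2 hy (mem_cent.1 y.2))

theorem q_N (h : ¬ Phi Q z s) {v : V} (hv : v ∈ Im a b.sb) : q v = 0 := by
  obtain ⟨w, rfl⟩ := mem_Im.1 hv
  exact b.p.q_N h b.d0.co b.hσ w

theorem inv_D (k : CC z) (h : k * s = s * k) : Inv a (f k) (b.d0.co.img (Q ⊓ Q1)) := by
  rintro _ ⟨d, hd, hd', rfl⟩
  have := b.d0.pre.norm _ (mem_cent.1 k.2) d hd'
  exact ⟨_, ⟨this, b.p.h1.norm _ h d hd.2⟩, this, (b.d0.act k d hd').symm⟩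

variable (m : Md A A1 ρ q a)
include m

theorem type_c {v : V} (hv : v ∈ Im a b.sb) (h : q v ≠ 0) : Phi Q z s ∧ Q1 ⊓ Q = ⊥ := by
  have hφ : Phi Q z s := by
    by_contra e
    exact h (b.q_N e hv)
  refine ⟨hφ, eq_bot_iff.2 fun d hd => ?_⟩
  obtain ⟨u, hu, rfl⟩ := b.d0.co.surj v
  have e1 : s * u * s⁻¹ = u * z := by
    rw [b.inv_of_Im hu hv, ← (b.d0.co.sq_one hu).1 (zmod2_ne_zero.1 h), inv_eq_iff_mul_eq_one,
      ← b.d0.pre.es.pow_four hu]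
    simp [pow_succ, mul_assoc]
  have e2 : u * d = d * u := (b.d0.co.polar_iff hu hd.2).1 (m.b_Im_Fx hv
    (b.fix_D _ b.sb_mem ⟨d, ⟨hd.2, hd.1⟩, hd.2, rfl⟩))
  obtain ⟨x, hx, e⟩ := b.p.exists_nn b.d0.co b.hσ hd.2 fun x hx hf => by
    rcases (b.p.fixed_iff b.d0.co b.hσ hx).1 hf with e | e
    · exact b.p.D_comm_A hd.2 hd.1 hx (comm_of_conj_eq e).symm
    · have := b.p.D_comm_A hd.2 hd.1 (Q.mul_mem hx hu) (comm_of_conj_eq (by
        rw [← conj_mul, e, e1, mul_assoc, ← mul_assoc z, ← b.d0.pre.es.comm_z u hu,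
          b.d0.pre.es.zz'])).symm
      rw [mul_assoc, e2, ← mul_assoc, ← mul_assoc] at this
      exact mul_right_cancel this
  exact b.p.D_inf_N hφ hd.1 hx e

section two
variable (t2 : TII a A ρ)
include t2

theorem mem_A (h : b.sb ∈ A1) : b.symm.sb ∈ A := by
  obtain ⟨u, hu, us, h0, h1⟩ : ∃ u ∈ Q, u * s = s * u ∧ π u ∈ Im a ρ ∧ π u ≠ 0 := by
    obtain ⟨v, hv, v0⟩ := exists_ne_zero (m.Im_ne m.ρne)
    obtain ⟨w, hw, w0, wv⟩ := exists_ne t2.1.ge v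
    obtain ⟨x, hx, rfl⟩ := b.d0.co.surj v
    obtain ⟨y, hy, rfl⟩ := b.d0.co.surj w
    rcases (b.d0.fix_iff _ hx).1 (m.U_le t2 h b.sq hv) with e | e
    · exact ⟨x, hx, (comm_of_conj_eq e).symm, hv, v0⟩
    rcases (b.d0.fix_iff _ hy).1 (m.U_le t2 h b.sq hw) with e' | e'
    · exact ⟨y, hy, (comm_of_conj_eq e').symm, hw, w0⟩
    refine ⟨y * x, mul_mem hy hx, (comm_of_conj_eq ?_).symm, ?_⟩
    · rw [← conj_mul]; erw [e, e']
      rw [mul_assoc, ← mul_assoc z, ← b.d0.pre.es.comm_z x hx, b.d0.pre.es.zz']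
    · rw [b.d0.co.map_mul _ hy _ hx]
      exact ⟨add_mem hw hv, fun e => wv (add_eq_zero_zmod2.1 e)⟩
  have e := (b.d0.co.sq_one hu).1 (zmod2_ne_zero.1 fun e => h1 (m.aniso t2 h0 e))
  have := m.sq (f1 ⟨u, mem_cent.2 us⟩) (by
    rw [← map_pow, b.d1.ker]; exact (b.d0.pre.es.pow_four hu ▸ one_mem Q1 : u ^ 4 ∈ Q1))
  rw [← map_mul] at this
  rwa [show (⟨u, mem_cent.2 us⟩ * ⟨u, mem_cent.2 us⟩ : CC s) = ⟨z, mem_cent.2 b.p.comm.symm⟩ from
    Subtype.ext e] at this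

theorem not_A1 : b.sb ∉ A1 := fun h => by
  obtain ⟨d, v, hv, qv⟩ := m.inv_II t2 (b.symm.mem_A m t2 (m.le (b.mem_A m t2 h))) b.sq b.ne
  obtain ⟨hφ, e⟩ := b.type_c m hv qv
  have c1 := b.card_A1 hφ
  have c2 := m.card_le b.symm.pgrp
  have c3 : 2 ^ 6 ≤ 2 ^ dim (Fx a b.sb) :=
    Nat.pow_le_pow_right (by norm_num) (by have := m.dim_Fx b.sb; omega)
  rw [e, card_bot] at c1
  omega

theorem false_II : False := by
  have inv : ∀ (x : CC s), IsConj s x → (x : G) ≠ s → f1 x * ρ = ρ * ρ * f1 x := fun x h1 h2 => by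
    obtain ⟨_, _, _, b'⟩ := b.d1.exists_PB m x h1 h2
    exact (m.dich _ 1 (by rw [pow_one, _root_.sq]; exact b'.sq)).resolve_left (b'.not_A1 m t2)
  obtain ⟨v, hv, qv⟩ := m.exists_ns t2 ((m.dich _ 1 (by
    rw [pow_one, _root_.sq]; exact b.sq)).resolve_left (b.not_A1 m t2))
  obtain ⟨hφ, e⟩ := b.type_c m hv qv
  have c1 := b.card_A1 hφ
  have c2 := m.card_le b.symm.pgrp
  rw [e, card_bot, one_mul] at c1
  have c3 : dim (Fx a b.sb) ≤ 5 := (Nat.pow_le_pow_iff_right (by norm_num : 1 < 2)).1 (c1 ▸ c2)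
  obtain ⟨_, ⟨w, rfl⟩, w0, qw⟩ := m.exists_sing b.sq (by have := m.dim_Fx b.sb; omega)
  obtain ⟨x, hx, rfl⟩ := b.d0.co.surj w
  rw [Tm_apply, ← b.π_nn hx] at w0 qw
  have hn := b.p.nn_mem hx
  have ns := b.comm_of_sing hn (b.π_nn hx ▸ T_mem _ _) qw
  have h1 : s * nn s x ∈ CC s := mem_cent.2 (by rw [mul_assoc, ns])
  have h2 : z ∈ CC s := mem_cent.2 b.p.comm.symm
  have i1 := inv ⟨_, h1⟩ (b.p.conj.symm.trans (b.p.isConj_nn x)) fun e =>
    w0 (by rw [mul_eq_left.1 e, b.d0.co.map_one])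
  have i2 := inv ⟨_, h2⟩ b.p.conj.symm b.p.ne.symm
  have i3 := inv (⟨_, h1⟩ * ⟨_, h2⟩) (by
    simpa [mul_assoc] using b.p.conj.symm.trans (b.p.isConj_nn_z hφ hx)) fun e => w0 (by
      rw [← b.d0.co.map_mul_z hn, mul_eq_left.1 ((mul_assoc _ _ _).symm.trans e), b.d0.co.map_one])
  rw [map_mul] at i3
  refine m.not_mem_A1 i3 (m.mul_mem_A1 i1 i2 (k := 1) ?_)
  rw [← map_mul, ← map_pow, b.d1.ker]
  have : (s * nn s x * z) ^ 2 = 1 := by
    obtain ⟨g, hg⟩ := isConj_iff.1 (b.p.isConj_nn_z hφ hx)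
    rw [mul_assoc, ← hg, conj_pow, _root_.sq, b.d0.pre.es.mul_self]; simp
  exact (this ▸ one_mem Q1 : (s * nn s x * z) ^ 2 ∈ Q1)

end two

end PB

end CfsgLib.Small9
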