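import Mathlib
import Cfsg.Agent.Lib.ZStar.Main
import Cfsg.Agent.Lib.Small9.CaseB

/-!
Commuting conjugates `z`, `s` with `s ∉ Q` for modules of type I; the main theorem.
-/

set_option autoImplicit false
set_option linter.unusedSectionVars false

namespace CfsgLib.Small9

open Subgroup Module CfsgLib.ExtraTwo CfsgLib.LargeExtra CfsgLib.W4
open QuadraticMap (polar polarBilin polar_add_left polar_add_right polar_comm)

variable {G : Type*} [Group G] [Finite G] {H : Type*} [Group H] [Finite H] {V : Type*}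
  [AddCommGroup V] [Module (ZMod 2) V] [Finite V]

local notation "dim" => finrank (ZMod 2)
local notation "CC" z:max => centralizer ({z} : Set _)

variable {a : H →* (V ≃ₗ[ZMod 2] V)} {q : QuadraticForm (ZMod 2) V} {A A1 : Subgroup H} {ρ : H}
  {Q Q1 : Subgroup G} {z s : G} {π π1 : G → V} {f : CC z →* H} {f1 : CC s →* H}

namespace PB
variable (b : PB a q Q Q1 z s π π1 f f1) (m : Md A A1 ρ q a) (t1 : TI a A ρ)
include b m

theorem comm_of_four (h : ¬ Phi Q z s) {u : G} (hu : u ∈ Q) (h' : π u ∈ Fx a b.sb) : u * s = s * u :=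
  b.p.comm_of_fixed h b.d0.co b.hσ hu (mem_Fx.1 h')

theorem elem (h : ¬ Phi Q z s) (d : dim (Fx a b.sb) = 4) : ∀ y ∈ bar f1 Q, y * y = 1 := by
  rintro _ ⟨y, hy, rfl⟩
  replace hy : (y : G) ∈ Q := hy
  have := b.d0.fix_of_comm ⟨s, mem_cent.2 b.p.comm⟩ hy (mem_cent.1 y.2).symm
  rw [← map_mul, b.d1.ker, coe_mul, (b.d0.co.sq _ hy).1 (b.q_N h (m.Im_eq b.sq d.le ▸ this))]
  exact one_mem _

theorem eight_le (h : ¬ Phi Q z s) (d : dim (Fx a b.sb) = 4) : 8 ≤ Nat.card (bar f1 Q) := by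
  have c1 := b.card_A0 h
  have c2 := b.p.card_D_le_four h
  rw [d, inf_comm] at c1
  nlinarith

theorem exists_lift (d : dim (Fx a b.sb) = 4) (h : b.sb ∈ A1) :
    ∃ k : CC z, k * s = s * k ∧ f k = ρ := by
  obtain ⟨g, hg⟩ := b.d0.surj (ρ * ρ)
  have gz := mem_cent.1 g.2
  have hu : s * (g * s * (g : G)⁻¹) ∈ Q := (b.d0.ker (⟨s, mem_cent.2 b.p.comm⟩ *
      (g * ⟨s, mem_cent.2 b.p.comm⟩ * g⁻¹))).1 (by
    simp only [map_mul, map_inv, hg]
    change b.sb * (ρ * ρ * b.sb * (ρ * ρ)⁻¹) = 1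
    rw [mul_assoc ρ ρ, ← m.comm _ h, ← mul_assoc ρ, ← m.comm _ h, mul_assoc b.sb ρ ρ,
      mul_inv_cancel_right, b.sq])
  have e1 : s * (s * (g * s * (g : G)⁻¹)) * s⁻¹ = (s * (g * s * (g : G)⁻¹))⁻¹ := by
    rw [← mul_assoc s s, b.p.ss, one_mul, mul_inv_rev, mul_inv_rev, mul_inv_rev, inv_inv, b.p.s_inv,
      mul_assoc (g : G) s]
  obtain ⟨x, hx, e⟩ := b.exists_nn hu (m.Im_eq b.sq d.le ▸ mem_Fx.2 (by
    erw [b.hσ _ hu]; rw [e1, b.d0.co.map_inv hu]))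
  have e2 : x * g * s * (x * g)⁻¹ = s ∨ x * g * s * (x * g)⁻¹ = s * z := by
    have : x * g * s * (x * g)⁻¹ = x * (s * (s * (g * s * (g : G)⁻¹))) * x⁻¹ := by
      rw [← mul_assoc s s, b.p.ss]; group
    rw [this]
    rcases e with e | e <;> rw [e]
    · left; rw [← b.p.conj_nn]; group
    · right; rw [← mul_assoc s, ← b.p.conj_nn, mul_assoc x, mul_assoc _ z,
        ← b.d0.pre.es.comm_z _ (inv_mem hx)]; group
  let k : CC z := ⟨x, b.d0.pre.le_cent hx⟩ * g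
  refine ⟨k * k, comm_of_conj_eq ?_, ?_⟩
  · change x * g * (x * g) * s * (x * g * (x * g))⁻¹ = s
    rw [show x * g * (x * g) * s * (x * g * (x * g))⁻¹ = x * g * (x * g * s * (x * g)⁻¹) * (x * g)⁻¹ by
      group]
    rcases e2 with e2 | e2
    · rw [e2, e2]
    · rw [e2, ← conj_mul, e2, conj_eq_of_comm (g := x * g) (mem_cent.1 k.2), b.d0.pre.es.zz']
  · simp only [k, map_mul, (b.d0.ker ⟨x, _⟩).2 hx, hg, one_mul]
    rw [← mul_assoc, m.ρ3, one_mul]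

theorem fix_C (h : ¬ Phi Q z s) (d : dim (Fx a b.sb) = 4) (h2 : 2 < Nat.card (Q ⊓ Q1 : Subgroup G)) :
    ∀ y ∈ bar f Q1, Fx a b.sb ≤ Fx a y := by
  rintro _ ⟨y, hy, rfl⟩ v hv
  obtain ⟨w, rfl⟩ := mem_Im.1 (m.Im_eq b.sq d.le ▸ hv : v ∈ Im a b.sb)
  obtain ⟨x, hx, rfl⟩ := b.d0.co.surj w
  rw [← b.π_nn hx]
  exact b.d0.fix_of_comm y (b.p.nn_mem hx) (b.p.B_comm_nn h h2 hy (mem_cent.1 y.2) hx)

include t1

theorem not_phi (h : b.sb ∈ A) : ¬ Phi Q z s := by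
  rintro ⟨u, hu, e⟩
  have h1 : π u ∈ Im a b.sb := m.Im_eq b.sq (m.dim_A t1 h b.sq b.ne).le ▸
    (b.d0.fix_iff _ hu).2 (Or.inr e)
  rw [conj_eq_of_comm (b.comm_of_sing hu h1 (m.sing_I t1 (m.le h) b.sq h1)).symm, left_eq_mul] at e
  exact b.d0.pre.es.ne_one e

theorem four (h : ¬ Phi Q z s) : dim (Fx a b.sb) = 4 := by
  have d1 := m.dim_Fx b.sb
  have d2 := m.dim_Im_le b.sq
  rcases m.dich b.sb 1 (by rw [pow_one, _root_.sq]; exact b.sq) with e | e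
  swap
  · have := m.dim_inv t1 e; omega
  by_contra hne
  obtain ⟨k, hk⟩ := m.even_I t1 (inv_Im (a := a) (m.comm _ e).symm)
  have c1 := b.card_A0 h
  have c2 := b.p.card_D_le_four h
  have c3 := m.card_le b.symm.pgrp
  have c4 : 2 ^ 6 ≤ 2 ^ dim (Fx a b.sb) := Nat.pow_le_pow_right (by norm_num) (by omega)
  rw [inf_comm] at c2
  have c5 := Nat.pow_le_pow_right (show 0 < 2 by norm_num)
    (m.fix_syl t1 b.symm.pgrp (by nlinarith) b.symm.fix_D)
  rw [← b.symm.card_D] at c5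
  nlinarith

theorem two_lt (h : ¬ Phi Q z s) (h1 : b.sb ∈ A1) : 2 < Nat.card (Q ⊓ Q1 : Subgroup G) := by
  have d := b.four m t1 h
  obtain ⟨k, hk, e⟩ := b.exists_lift m d h1
  obtain ⟨n, hn⟩ := m.even_I t1 (e ▸ b.inv_D k hk)
  have c1 := b.card_A0 h
  have c2 := m.card_A1 (b.elem m h d)
  have c3 := m.idx1 _ b.symm.pgrp
  rw [d, inf_comm, b.card_D, hn] at c1
  rw [b.card_D, hn]
  rcases n with _ | n
  · omega
  · exact lt_of_lt_of_le (by norm_num : 2 < 2 ^ 2) (Nat.pow_le_pow_right (by norm_num) (by omega))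

theorem mem_A1 (h : ¬ Phi Q z s) (h' : ¬ Phi Q1 s z) : b.sb ∈ A1 := by
  refine (m.dich b.sb 1 (by rw [pow_one, _root_.sq]; exact b.sq)).resolve_right fun e => ?_
  have d := b.four m t1 h
  have d' := b.symm.four m t1 h'
  obtain ⟨c, hc, hA, h1⟩ := m.exists_A b.pgrp [1] (by
    have := b.symm.eight_le m h' d'; show 4 * 1 < _; omega)
  have d1 := m.dim_A t1 hA (b.symm.elem m h' d' c hc) (by simpa using h1)
  have d2 := m.semi_I t1 e (m.inv_ρ (m.le hA))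
  rw [inf_comm] at d2
  by_cases h2 : 2 < Nat.card (Q ⊓ Q1 : Subgroup G)
  · rw [inf_eq_left.2 (b.fix_C m h d h2 c hc)] at d2; omega
  have d3 := dim_map (Tm a c) (Fx a b.sb)
  have d4 := Submodule.finrank_mono (show (Fx a b.sb).map (Tm a c) ≤ b.d0.co.img (Q ⊓ Q1) by
    rintro _ ⟨v, hv, rfl⟩
    obtain ⟨x, hx, rfl⟩ := b.d0.co.surj v
    obtain ⟨y, hy, rfl⟩ := hc
    have := b.p.comm_mem hx (b.comm_of_four m h hx hv) hy (mem_cent.1 y.2)
    exact ⟨_, this, this.1, (b.d0.T_eq y hx).symm⟩)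
  have d5 : dim (b.d0.co.img (Q ⊓ Q1)) ≤ 1 :=
    (Nat.pow_le_pow_iff_right (by norm_num : 1 < 2)).1 (by rw [← b.card_D]; omega)
  unfold Fx at *
  omega

theorem four_le (h : ¬ Phi Q z s) (h' : ¬ Phi Q1 s z) :
    bar f Q1 ≤ A1 ∧ 4 ≤ Nat.card (bar f Q1 ⊓ A : Subgroup H) := by
  have d := b.four m t1 h
  have h1 := b.mem_A1 m t1 h h'
  have k : bar f Q1 ≤ A1 := fun y hy => by
    by_contra e
    have := m.semi_I t1 (m.inv_of_not_mem b.pgrp hy e) (m.inv_ρ h1)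
    rw [inf_eq_left.2 (b.fix_C m h d (b.two_lt m t1 h h1) y hy)] at this
    omega
  have := m.idx2 (bar f Q1)
  rw [inf_eq_left.2 k] at this
  have := b.symm.eight_le m h' (b.symm.four m t1 h')
  exact ⟨k, by omega⟩

theorem not_A : b.sb ∉ A := fun hA => by
  have h := b.not_phi m t1 hA
  have h' : ¬ Phi Q1 s z := fun e => by
    have := b.p.symm.card_D_le_two e
    have := b.two_lt m t1 h (m.le hA)
    rw [inf_comm] at this
    omega
  have d' := b.symm.four m t1 h'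
  have el := b.symm.elem m h' d'
  obtain ⟨k, hk, e⟩ := b.symm.exists_lift m d' (b.symm.mem_A1 m t1 h' h)
  obtain ⟨c', c'', y', y'', g, F, ⟨y, hy, rfl⟩⟩ := m.exists_V4 el b.sb_mem hA b.ne
    (by have := (b.four_le m t1 h h').2; omega)
  replace hy : (y : G) ∈ Q1 := hy
  let k' : CC z := ⟨k, mem_cent.2 hk⟩
  let s' : CC z := ⟨s, mem_cent.2 b.p.comm⟩
  have ks : k' * s' = s' * k' := Subtype.ext (mem_cent.1 k.2)
  have hy' : ((k' * y * k'⁻¹ : CC z) : G) ∈ Q1 := b.p.h1.norm _ (mem_cent.1 k.2) _ hy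
  have hm : f (k' * y * k'⁻¹) ∈ bar f Q1 := ⟨_, hy', rfl⟩
  have key : ∀ w : CC z, (w : G) ∈ Q1 → π1 w = π1 y → f (k' * y * k'⁻¹) = f w → False := by
    intro w hw e1 e2
    have h1 : ((k' * y * k'⁻¹ * w⁻¹ : CC z) : G) ∈ Q := (b.d0.ker _).1 (by
      rw [map_mul, e2, map_inv, mul_inv_cancel])
    have h2 := b.symm.inv_D k hk _ ⟨_, ⟨Q1.mul_mem hy' (Q1.inv_mem hw), h1⟩,
      Q1.mul_mem hy' (Q1.inv_mem hw), rfl⟩
    rw [b.d1.co.map_mul _ hy' _ (inv_mem hw), b.d1.co.map_inv hw, e1] at h2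
    erw [← b.d1.act k _ hy] at h2
    rw [e, map_add, m.rho_rel (t1.1 ▸ trivial), add_right_comm, add_self_zmod2, zero_add] at h2
    obtain ⟨x, hx, hx', e3⟩ := h2
    have h3 : f ⟨x, b.d0.pre.le_cent hx.2⟩ = 1 := (b.d0.ker _).2 hx.2
    rcases (b.d1.co.eq_iff hx' hy).1 e3 with e4 | e4
    · exact F.h1.ne F.ne (by rw [← h3]; exact congrArg f (Subtype.ext e4))
    · refine F.h1.ne' F.ne ?_
      rw [← one_mul b.sb, ← h3, sb, ← map_mul]; exact congrArg f (Subtype.ext e4.symm)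
  rcases F.cent4 (e := f (k' * y * k'⁻¹)) (by
    rw [map_mul, map_mul, map_inv]; exact m.norm _ _ F.h1.mem) (comm_of_sq el hm b.sb_mem)
    (comm_of_sq el hm ⟨y, hy, rfl⟩) with e1 | e1 | e1 | e1
  · rw [map_mul, map_mul, map_inv, conj_eq_one_iff] at e1
    exact F.h1.ne F.ne e1
  · refine F.h1.ne' F.ne ?_
    rw [map_mul, map_mul, map_inv, mul_inv_eq_iff_eq_mul, show b.sb = f s' from rfl, ← map_mul f s',
      ← ks, map_mul, mul_right_inj] at e1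
    exact e1.symm
  · exact key y hy rfl e1
  · exact key (s' * y) (mul_mem b.p.h1.es.mem hy) (by
      erw [b.d1.co.map_mul _ b.p.h1.es.mem _ hy]; rw [b.d1.co.map_z, zero_add]) (by rw [e1, map_mul]; rfl)

theorem no_phi : ¬ Phi Q z s := fun h => by
  obtain ⟨S, hS, h0, d⟩ : ∃ S ≤ Im a b.sb, (∀ v ∈ S, q v = 0) ∧ 2 ≤ dim S := by
    rcases m.dich b.sb 1 (by rw [pow_one, _root_.sq]; exact b.sq) with e | e
    · obtain ⟨v, hv, v0⟩ := exists_ne_zero (m.Im_ne b.ne)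
      exact ⟨_, le_rfl, fun v => m.sing_I t1 e b.sq,
        m.two_le_I t1 (inv_Im (m.comm _ e).symm) hv v0⟩
    · obtain ⟨S, h1, h2, h3⟩ := m.dim_sing b.sq
      have := m.dim_inv t1 e
      have := m.dim_Fx b.sb
      refine ⟨S, h1, h2, ?_⟩
      rcases h3 with rfl | h3 <;> omega
  have hle : b.d0.co.sub S ≤ CC s := fun u hu => mem_cent.2 (b.comm_of_sing hu.1 (hS hu.2) (h0 _ hu.2))
  have c1 := card_inf_mul_card_map (Q1 := b.d0.co.sub S) b.d1.pre.le_cent f1 b.d1.ker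
  rw [inf_eq_left.2 hle, b.d0.co.card_sub, card_eq, show Q1 ⊓ b.d0.co.sub S = ⊥ from
    eq_bot_iff.2 fun u hu => by
      obtain ⟨x, hx, e⟩ := b.exists_nn hu.2.1 (hS hu.2.2)
      exact b.p.D_inf_N h hu.1 hx e, card_bot, one_mul] at c1
  have c2 : 2 ^ 2 ≤ 2 ^ dim S := Nat.pow_le_pow_right (by norm_num) d
  obtain ⟨_, ⟨y, hy, rfl⟩, hA, h1⟩ := m.exists_A (Y := bar f1 (b.d0.co.sub S))
    (b.symm.pgrp.to_le (map_mono (comap_mono fun _ h => h.1))) [1] (by rw [c1]; simp; omega)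
  replace hy : (y : G) ∈ b.d0.co.sub S := hy
  let s' : CC s := ⟨s, mem_cent.2 rfl⟩
  obtain ⟨_, _, _, b'⟩ := b.d1.exists_PB m (s' * y) (by
    obtain ⟨x, hx, e | e⟩ := b.exists_nn hy.1 (hS hy.2) <;> erw [coe_mul, e]
    exacts [b.p.conj.symm.trans (b.p.isConj_nn x), b.p.conj.symm.trans (b.p.isConj_nn_z h hx)])
    fun e => h1 (by rw [show y = 1 from Subtype.ext (mul_eq_left.1 e)]; simp)
  refine b'.not_A m t1 ?_
  change f1 (s' * y) ∈ A
  rwa [map_mul, (b.d1.ker s').2 b.p.h1.es.mem, one_mul]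

theorem false_I : False := by
  have h := b.no_phi m t1
  have h' := b.symm.no_phi m t1
  have d := b.four m t1 h
  have d' := b.symm.four m t1 h'
  have el := b.symm.elem m h' d'
  have h1 := b.mem_A1 m t1 h h'
  have fx := b.fix_C m h d (b.two_lt m t1 h h1)
  have c4 := (b.four_le m t1 h h').2
  obtain ⟨_, ⟨⟨y, hy, rfl⟩, hA⟩, hc⟩ := exists_not_mem_list (P := bar f Q1 ⊓ A) [1] (by
    show 1 < _; omega)
  replace hc : f y ≠ 1 := by simpa using hc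
  replace hy : (y : G) ∈ Q1 := hy
  have hm : f y ∈ bar f Q1 := ⟨y, hy, rfl⟩
  obtain ⟨c', c'', y', y'', g, F, hc'⟩ := m.exists_V4 el hm hA hc (by omega)
  let z' : CC z := ⟨z, mem_cent.2 rfl⟩
  have fz : f z' = 1 := (b.d0.ker z').2 b.p.h0.es.mem
  have new : ∀ w : CC z, f w ≠ 1 → ∀ x, w = nn z x → ∃ Q2 π2 f2,
      PB a q Q Q2 z (z' * w : CC z) π π2 f f2 := fun w hw x e => b.d0.exists_PB m (z' * w) (by
    erw [coe_mul, e]; exact b.p.conj.trans (b.p.symm.isConj_nn x))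
    fun e => hw (by rw [show w = 1 from Subtype.ext (mul_eq_left.1 e), map_one])
  obtain ⟨x, hx, e | e⟩ := b.symm.exists_nn hy (m.Im_eq b.symm.sq d'.le ▸
    b.d1.fix_of_comm ⟨z, mem_cent.2 b.p.comm.symm⟩ hy (mem_cent.1 y.2).symm)
  · obtain ⟨_, _, _, b'⟩ := new y hc x e
    refine b'.not_A m t1 ?_
    change f (z' * y) ∈ A
    rwa [map_mul, fz, one_mul]
  have n1 : f y * b.sb ∉ A := fun e => b.not_A m t1 ((A.mul_mem_cancel_left hA).1 e)
  obtain ⟨_, _, _, b'⟩ := new (y * ⟨s, mem_cent.2 b.p.comm⟩)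
    (fun e => n1 (by rw [sb, ← map_mul, e]; exact one_mem _)) x (by
      erw [coe_mul, e]; exact b.p.h1.es.zz' _)
  have := b'.four m t1 (b'.no_phi m t1)
  change dim (Fx a (f (z' * (y * _)))) = 4 at this
  rw [map_mul, fz, one_mul, map_mul] at this
  exact m.odd_I t1 F h1 (b.not_A m t1) (comm_of_sq el b.sb_mem hm) (comm_of_sq el b.sb_mem hc')
    (fx _ hm) (fx _ hc') d this

end PB

theorem Dt.isolated (m : Md A A1 ρ q a) (d : Dt a q Q z π f) : Cfsg.IsIsolatedInvolution z := by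
  refine ⟨d.pre.es.orderOf_eq, fun g hg => ?_⟩
  by_contra hne
  obtain ⟨_, _, _, b⟩ := d.exists_PB m ⟨_, mem_cent.2 hg.eq.symm⟩ (isConj_iff.2 ⟨g, rfl⟩) hne
  exact m.dichotomy.elim (b.false_I m) (b.false_II m)

/-- If `C(z) / Q ≅ H ≤ S₃ × S₆` contains `3 × A₆` and `|Q| = 2⁹` then `z` is isolated. -/
theorem isolated {Q : Subgroup G} {z : G} (h : Pre Q z) (hQ : Nat.card Q = 2 ^ 9)
    (φ : CC z →* HH) (hφ : ∀ g, φ g = 1 ↔ (g : G) ∈ Q) (hA : AA ≤ φ.range) (hρ : ρ0 ∈ φ.range) :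
    Cfsg.IsIsolatedInvolution z := by
  obtain ⟨n, q, π, c⟩ := h.es.exists_coord
  obtain ⟨r, h1, h2, h3⟩ := h.exists_act c
  have hs := φ.rangeRestrict_surjective
  have hk : ∀ g, φ.rangeRestrict g = 1 ↔ (g : G) ∈ Q := fun g => by
    rw [← hφ, Subtype.ext_iff]; rfl
  let a := φ.rangeRestrict.liftOfRightInverse _ (Function.rightInverse_surjInv hs)
    ⟨r, fun g hg => (h3 g).2 ((hk g).1 hg)⟩
  have ha : ∀ g, a (φ.rangeRestrict g) = r g := fun g => MonoidHom.liftOfRightInverse_comp_apply ..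
  refine Dt.isolated (a := a) (A := AA.comap φ.range.subtype) (A1 := AA1.comap φ.range.subtype)
    (ρ := ⟨ρ0, hρ⟩) ⟨Grp.comap (subtype_injective _) (by rwa [range_subtype]) grp, fun g v => ?_,
      fun g hg => ?_, c.nondegenerate, c.finrank_eq hQ⟩
    ⟨h, c, hQ, hs, hk, fun g x hx => by rw [ha, h1 g x hx]⟩
  · obtain ⟨g, rfl⟩ := hs g
    rw [ha, h2]
  · obtain ⟨g, rfl⟩ := hs g
    rw [ha] at hg
    exact (hk g).2 ((h3 g).1 (LinearEquiv.ext hg))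

theorem not_simple [IsSimpleGroup G] {z : G} {Q : Subgroup (CC z)} [Q.Normal] (h : Pre (amb Q) z)
    (hQ : Nat.card Q = 2 ^ 9) (ψ : CC z ⧸ Q →* HH) (hψ : Function.Injective ψ) (hA : AA ≤ ψ.range)
    (hρ : ρ0 ∈ ψ.range) : False := by
  have e : (ψ.comp (QuotientGroup.mk' Q)).range = ψ.range := by
    rw [MonoidHom.range_comp, QuotientGroup.range_mk', ← MonoidHom.range_eq_map]
  obtain ⟨x, -, y, -, hxy⟩ := h.es.nonab
  exact ZStar.not_isolated_of_simple (fun _ => hxy (mul_comm' x y)) z (isolated h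
    ((card_amb Q).trans hQ) (ψ.comp (QuotientGroup.mk' Q)) (fun g => by
      rw [MonoidHom.comp_apply, map_eq_one_iff ψ hψ, coe_mem_amb]; exact QuotientGroup.eq_one_iff g)
    (e ▸ hA) (e ▸ hρ))

end CfsgLib.Small9
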